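import Cfsg.Agent.SC64.C
import Cfsg.Agent.S3171

/-! The image of a Sylow 2-subgroup of `M₂₄` under a homomorphism whose kernel is the centre carries a frame. -/

set_option autoImplicit false
set_option maxRecDepth 100000
set_option synthInstance.maxSize 4096

namespace Cfsg.Agent.SC64

open Cfsg.Agent.BG Subgroup
open Cfsg.Agent.HeR (tc lin gT)
open Cfsg.Agent.S3171 (BE LD ez gq gq_lt)
open Cfsg.Agent.Comp (force force_eq allLt allLt_iff nthL)

theorem exists_p (P : Sylow 2 M24) : ∃ (U : ℕ → Prop) (p : ℕ → (P : Subgroup M24)), (∀ v, U (tc v)) ∧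
    (∀ x, ∃ v < 1024, x = p (tc v)) ∧ (∀ a b, U a → U b → U (HeR.mul a b) ∧ p (HeR.mul a b) = p a * p b) ∧
    (∀ a b, U a → U b → p a = p b → a = b) ∧ ∀ x, x ∈ center (P : Subgroup M24) ↔ x = 1 ∨ x = p HeR.z := by
  obtain ⟨j, hj, ⟨e⟩⟩ := S2133.result ⟨Matrix.transvection 0 1 1, by decide +kernel⟩ rfl
  obtain ⟨f, h, -⟩ := HeR.exists_st' _ rfl j hj e
  have := Fact.mk Nat.prime_two
  obtain ⟨g, hg⟩ := Comp.exists_conj_sylow (k := 10) h.card_T Golay.card_M24 (by norm_num) P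
  let ε := Comp.conjEquiv g hg
  classical
  let p : ℕ → (P : Subgroup M24) := fun n => if t : f n ∈ HeR.TG f then ε ⟨f n, t⟩ else 1
  have hp : ∀ n (t : f n ∈ HeR.TG f), p n = ε ⟨f n, t⟩ := fun n t => dif_pos t
  let U := fun n => HeR.V n ∧ f n ∈ HeR.TG f
  have hU : ∀ v, U (HeR.tc v) := fun v => ⟨HeR.V_tc v, h.tc_mem v⟩
  have h1 : ∀ x, ∃ v < 1024, x = p (HeR.tc v) := fun x => by
    obtain ⟨v, hv, t⟩ := h.mem_T (ε.symm x).2
    exact ⟨v, hv, by rw [hp _ (h.tc_mem v), ← MulEquiv.symm_apply_eq]; exact Subtype.ext t⟩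
  have h2 : ∀ a b, U a → U b → U (HeR.mul a b) ∧ p (HeR.mul a b) = p a * p b := fun a b ha hb => by
    have t : f (HeR.mul a b) ∈ HeR.TG f := h.mul ha.1 hb.1 ▸ mul_mem ha.2 hb.2
    exact ⟨⟨ha.1.mul hb.1, t⟩, by rw [hp _ t, hp _ ha.2, hp _ hb.2, ← map_mul]; exact congrArg ε (Subtype.ext (h.mul ha.1 hb.1))⟩
  have h3 : ∀ a b, U a → U b → p a = p b → a = b := fun a b ha hb t =>
    h.inj ha.1 hb.1 (congrArg Subtype.val (ε.injective ((hp _ ha.2).symm.trans (t.trans (hp _ hb.2)))))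
  have uz : U HeR.z := hU 8
  have o : p HeR.one = 1 := by
    have : p HeR.one = p HeR.one * p HeR.one := (h2 _ _ (hU 0) (hU 0)).2
    simpa using this
  refine ⟨U, p, hU, h1, h2, h3, fun x => ⟨fun t => ?_, ?_⟩⟩
  · obtain ⟨v, hv, rfl⟩ := h1 x
    have k : ∀ w, HeR.mul (HeR.tc w) (HeR.tc v) = HeR.mul (HeR.tc v) (HeR.tc w) := fun w =>
      h3 _ _ (h2 _ _ (hU w) (hU v)).1 (h2 _ _ (hU v) (hU w)).1 (by
        rw [(h2 _ _ (hU w) (hU v)).2, (h2 _ _ (hU v) (hU w)).2, Subgroup.mem_center_iff.1 t])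
    rcases (by decide +kernel : ∀ v < 1024, (∀ w ∈ [1, 16, 128, 512], HeR.mul (HeR.tc w) (HeR.tc v) =
      HeR.mul (HeR.tc v) (HeR.tc w)) → v = 0 ∨ v = 8) v hv fun w _ => k w with rfl | rfl
    exacts [.inl o, .inr rfl]
  · rintro (rfl | rfl)
    · exact one_mem _
    · refine Subgroup.mem_center_iff.2 fun y => ?_
      obtain ⟨v, -, rfl⟩ := h1 y
      rw [← (h2 _ _ (hU v) uz).2, ← (h2 _ _ uz (hU v)).2, (HeR.V_tc v).2.2]

def ld (δ : ℕ) : ℕ := nthL 0 LD δ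
def dl (v : ℕ) : ℕ := v / 16 % 4 + 4 * (v / 128 % 2)

variable {G : Type*} [Group G] [Finite G]

theorem coded (S : Subgroup G) (U : ℕ → Prop) (s : ℕ → G) (hU : ∀ v, U (tc v))
    (h1 : ∀ x, x ∈ S ↔ ∃ v < 1024, x = s (tc v)) (h2 : ∀ a b, U a → U b → U (HeR.mul a b) ∧ s (HeR.mul a b) = s a * s b)
    (h3 : ∀ a b, U a → U b → (s a = s b ↔ ez a b = true)) : ∃ A, Fr S A fun q => s (lin BE q) := by
  have u : ∀ a, tc (gT a) = a → U a := fun a e => e ▸ hU _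
  have sE : ∀ q < 64, gT (lin BE q) < 1024 ∧ tc (gT (lin BE q)) = lin BE q := by decide +kernel
  have sD : ∀ q < 8, gT (ld q) < 1024 ∧ tc (gT (ld q)) = ld q := by decide +kernel
  have uE : ∀ q < 64, U (lin BE q) := fun q hq => u _ (sE q hq).2
  have uD : ∀ q < 8, U (ld q) := fun q hq => u _ (sD q hq).2
  have m : ∀ q < 64, ∀ r < 64, s (lin BE q) * s (lin BE r) = s (lin BE (q ^^^ r)) := fun q hq r hr => by
    rw [← (h2 _ _ (uE q hq) (uE r hr)).2, h3 _ _ (h2 _ _ (uE q hq) (uE r hr)).1 (uE _ (xor_lt hq hr))]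
    revert r; revert q; decide +kernel
  have o : s (lin BE 0) = 1 := by simpa using m 0 (by decide) 0 (by decide)
  let E : Subgroup G :=
    { carrier := {x | ∃ q < 64, x = s (lin BE q)}
      one_mem' := ⟨0, by decide, o.symm⟩
      mul_mem' := by
        rintro _ _ ⟨q, hq, rfl⟩ ⟨r, hr, rfl⟩
        exact ⟨_, xor_lt hq hr, m q hq r hr⟩
      inv_mem' := by
        rintro _ ⟨q, hq, rfl⟩
        exact ⟨q, hq, inv_eq_of_mul_eq_one_right (by rw [m q hq q hq, Nat.xor_self, o])⟩ }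
  have inj : ∀ q < 64, ∀ r < 64, s (lin BE q) = s (lin BE r) → q = r := fun q hq r hr c => by
    have := (h3 _ _ (uE _ hq) (uE _ hr)).1 c
    clear c; revert r; revert q; decide +kernel
  have kD : ∀ δ < 8, K (fun q => s (lin BE q)) (s (ld δ)) δ := fun δ hδ => ⟨hδ, fun q hq => by
    have l := (act_lt δ hδ q hq).1
    rw [mul_inv_eq_iff_eq_mul, ← (h2 _ _ (uD δ hδ) (uE q hq)).2, ← (h2 _ _ (uE _ l) (uD δ hδ)).2,
      h3 _ _ (h2 _ _ (uD δ hδ) (uE q hq)).1 (h2 _ _ (uE _ l) (uD δ hδ)).1]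
    clear l; revert q; revert δ; decide +kernel⟩
  have dc : ∀ x ∈ S, ∃ q < 64, ∃ δ < 8, x = s (lin BE q) * s (ld δ) := fun x hx => by
    obtain ⟨v, hv, rfl⟩ := (h1 x).1 hx
    have := allLt_iff.1 (by decide +kernel : allLt 1024 (fun v => force (tc v) fun x => force (ld (dl v)) fun d =>
        ez x (HeR.mul (lin BE (gq (HeR.mul x (HeR.mul d (HeR.mul d d))))) d)) = true) v hv
    simp only [force_eq] at this
    have l : dl v < 8 := by unfold dl; omega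
    exact ⟨_, gq_lt _, _, l, by
      rw [← (h2 _ _ (uE _ (gq_lt _)) (uD _ l)).2, h3 _ _ (hU _) (h2 _ _ (uE _ (gq_lt _)) (uD _ l)).1, this]⟩
  have kq : ∀ q < 64, ∀ δ < 8, K (fun q => s (lin BE q)) (s (lin BE q) * s (ld δ)) δ := fun q hq δ hδ => ⟨hδ, fun r hr => by
    have l := (act_lt δ hδ r hr).1
    rw [show ∀ a b c : G, a * b * c * (a * b)⁻¹ = a * (b * c * b⁻¹) * a⁻¹ from fun _ _ _ => by group, (kD δ hδ).2 r hr,
      mul_inv_eq_iff_eq_mul, m _ hq _ l, m _ l _ hq, Nat.xor_comm]⟩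
  refine ⟨E, fun _ => Iff.rfl, m, inj, ?_, fun t ht => ?_, fun t ht k => ?_, fun δ hδ d => ⟨_, (h1 _).2 ⟨_, (sD δ hδ).1,
    congrArg s (sD δ hδ).2.symm⟩, kD δ hδ, ?_⟩⟩
  · rintro _ ⟨q, hq, rfl⟩
    exact (h1 _).2 ⟨_, (sE q hq).1, congrArg s (sE q hq).2.symm⟩
  · obtain ⟨q, hq, δ, hδ, rfl⟩ := dc t ht
    exact ⟨δ, kq q hq δ hδ⟩
  · obtain ⟨q, hq, δ, hδ, rfl⟩ := dc t ht
    have k' := kq q hq δ hδ
    obtain rfl : δ = 0 := (show ∀ δ < 8, act δ 1 = act 0 1 → act δ 2 = act 0 2 → δ = 0 by decide +kernel) δ hδ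
      (inj _ (act_lt _ hδ _ (by decide)).1 _ (by decide) ((k'.2 1 (by decide)).symm.trans (k.2 1 (by decide))))
      (inj _ (act_lt _ hδ _ (by decide)).1 _ (by decide) ((k'.2 2 (by decide)).symm.trans (k.2 2 (by decide))))
    exact ⟨q, hq, by rw [show ld 0 = lin BE 0 by decide +kernel, o, mul_one]⟩
  · rw [← (h2 _ _ (uD δ hδ) (uD δ hδ)).2, ← o, h3 _ _ (h2 _ _ (uD δ hδ) (uD δ hδ)).1 (uE 0 (by decide))]
    revert δ; decide +kernel

theorem main {G : Type*} [Group G] [Finite G] (hO : oddCore G = ⊥) (S : Sylow 2 G) (P : Sylow 2 M24)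
    (π : (P : Subgroup M24) →* G) (hk : π.ker = center _) (hr : π.range = S) {A : Subgroup G} (hA : A ≤ S)
    (hc : IsMulCommutative A) (h64 : #A = 64) : A.Normal := by
  obtain ⟨U, p, hU, h1, h2, h3, hZ⟩ := exists_p P
  obtain ⟨E, h⟩ := coded (S : Subgroup G) U (fun n => π (p n)) hU (fun x => hr ▸ ⟨by
      rintro ⟨y, rfl⟩
      exact (h1 y).imp fun v t => ⟨t.1, congrArg _ t.2⟩, fun ⟨_, _, t⟩ => ⟨_, t.symm⟩⟩)
    (fun a b ha hb => ⟨(h2 a b ha hb).1, by simp only [(h2 a b ha hb).2, map_mul]⟩) fun a b ha hb => by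
      have uz : U HeR.z := hU 8
      rw [eq_comm, MonoidHom.eq_iff, hk]
      simp only [hZ, inv_mul_eq_iff_eq_mul, mul_one, ← (h2 _ _ ha uz).2, ez, Comp.force_eq, Comp.bor_eq,
        Bool.or_eq_true, Comp.nbeq]
      exact or_congr ⟨h3 _ _ hb ha, congrArg p⟩ ⟨h3 _ _ hb (h2 _ _ ha uz).1, congrArg p⟩
  let φ := QuotientGroup.lift (center (P : Subgroup M24)) π hk.ge
  have hφ : Function.Injective φ := (QuotientGroup.injective_lift_iff _ _ _).2 hk.symm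
  have uq : ∀ B ≤ (S : Subgroup G), IsMulCommutative B → #B = 64 → B = (E.comap φ).map φ := by
    have r : ∀ B ≤ (S : Subgroup G), (B.comap φ).map φ = B := fun B hB => map_comap_eq_self (fun x hx => by
      obtain ⟨y, rfl⟩ := hr.ge (hB hx)
      exact ⟨y, rfl⟩)
    have c : ∀ B ≤ (S : Subgroup G), #B = 64 → #(B.comap φ) = 64 := fun B hB c => by
      rw [← c, ← card_map_of_injective hφ, r B hB]
    intro B hB b1 b2
    have := abelian_iff.2 (le_cent_iff.2 fun _ ha _ hb => h.comm ha hb)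
    rw [← (S3171.result P).2.2 (B.comap φ) _ (comap_injective_isMulCommutative _ hφ) (c B hB b2)
      (comap_injective_isMulCommutative _ hφ) (c E h.le h.card), r B hB]
  have e := uq E h.le (abelian_iff.2 (le_cent_iff.2 fun _ ha _ hb => h.comm ha hb)) h.card
  rw [uq A hA hc h64, ← e]
  exact h.normal hO S rfl fun g hg => (uq _ hg (abelian_cj g (abelian_iff.2 (le_cent_iff.2 fun _ ha _ hb => h.comm ha hb)))
    (by rw [card_cj, h.card])).trans e.symm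

theorem center_two (P : Sylow 2 M24) : ∃ z, ∀ x, x ∈ center (P : Subgroup M24) → x = 1 ∨ x = z := by
  obtain ⟨-, p, -, -, -, -, hZ⟩ := exists_p P
  exact ⟨_, fun x => (hZ x).1⟩

end Cfsg.Agent.SC64
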