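import Cfsg.Agent.SC64.E
import Cfsg.Agent.SC64.F

/-! Groups with Sylow 2-subgroups of type `A₈` in which the `E₁₆` has automizer `A₅`. -/

set_option autoImplicit false
set_option linter.unusedSectionVars false
set_option maxRecDepth 100000
set_option synthInstance.maxSize 4096

namespace Cfsg.Agent.SC16

open Cfsg.Agent.BG Subgroup

universe u
variable {G : Type u} [Group G] [Finite G] {S A : Subgroup G} {e : ℕ → G}

def rep (q : ℕ) : ℕ := [0, 1, 1, 3, 1, 3, 3, 7, 1, 3, 3, 7, 3, 7, 7, 15].getD q 0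

namespace Fr
variable (h : Fr S A e) (hS : SylowIn 2 S ⊤) (ψ : N[A] →* alternatingGroup (Fin 5)) (hψ : Function.Surjective ψ)
  (hk : ∀ x, ψ x = 1 ↔ x.1 ∈ C[A])
include h

theorem sN : S ≤ N[A] := fun t ht => mem_norm_of_cj_le (by
  rintro _ ⟨x, hx, rfl⟩
  obtain ⟨q, hq, rfl⟩ := (h.mem x).1 hx
  obtain ⟨δ, k⟩ := h.ex t ht
  exact (show t * e q * t⁻¹ ∈ A from (k.2 q hq).symm ▸ h.em (act_lt δ k.1 q hq)))

theorem sC {t : G} (ht : t ∈ S) (c : t ∈ C[A]) : t ∈ A := by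
  obtain ⟨δ, k⟩ := h.ex t ht
  exact (h.zero ht k).2 (h.zero' k c)

theorem odd {H : Subgroup G} (hA : SylowIn 2 A H) (hn : H ≤ N[A]) : ∃ n, Odd n ∧ ∀ x ∈ H, x ^ n ∈ A := by
  have := Fact.mk Nat.prime_two
  have := NormalIn.subgroupOf (⟨hA.le, hn⟩ : A ⊴ H)
  exact ⟨_, Nat.not_even_iff_odd.1 fun c => hA.not_dvd c.two_dvd, fun x hx => pow_index_mem (A.subgroupOf H) ⟨x, hx⟩⟩

include hψ hk in
theorem fuse {t s : G} (ht : t ∈ S) (hs : s ∈ S) (nt : t ∉ A) (ns : s ∉ A) (t2 : t * t = 1) (s2 : s * s = 1) :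
    ∃ n ∈ N[A], n * t * n⁻¹ * s ∈ C[A] := by
  obtain ⟨c, hc⟩ := isConj_iff.1 (SC64.a5 (g := ψ ⟨t, h.sN ht⟩) (g' := ψ ⟨s, h.sN hs⟩)
    (fun c => nt (h.sC ht ((hk _).1 c))) (by rw [← map_mul, ← map_one ψ]; exact congrArg ψ (Subtype.ext t2))
    (fun c => ns (h.sC hs ((hk _).1 c))) (by rw [← map_mul, ← map_one ψ]; exact congrArg ψ (Subtype.ext s2)))
  obtain ⟨n, rfl⟩ := hψ c
  exact ⟨n, n.2, (hk (n * ⟨t, h.sN ht⟩ * n⁻¹ * ⟨s, h.sN hs⟩)).1 (by
    rw [map_mul, map_mul, map_mul, map_inv, hc, ← map_mul, ← map_one ψ]; exact congrArg ψ (Subtype.ext s2))⟩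

include hS hψ hk in
theorem out {t s : G} (ht : t ∈ S) (hs : s ∈ S) (nt : t ∉ A) (ns : s ∉ A) (t2 : t * t = 1) (s2 : s * s = 1) : IsConj t s := by
  have := Fact.mk Nat.prime_two
  obtain ⟨n, -, hn⟩ := h.fuse ψ hψ hk ht hs nt ns t2 s2
  have hA : SylowIn 2 A C[A] := by
    have := Sylow_setI_normal (cent_normal A) (pHall_subl h.sN le_top hS)
    rwa [show C[A] ⊓ S = A from le_antisymm (fun x hx => h.sC hx.2 hx.1) (le_inf h.ac h.le)] at this
  obtain ⟨m, hm, o⟩ := h.odd hA (cent_sub A)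
  have t3 : n * t * n⁻¹ * (n * t * n⁻¹) = 1 := by rw [conj_mul, t2]; simp
  refine (isConj_iff.2 ⟨n, rfl⟩).trans ?_
  generalize n * t * n⁻¹ = t' at *
  have ha := o _ hn
  have c1 : s * (t' * s) ^ m * s⁻¹ = (t' * s) ^ m := by
    rw [Invol.conj_pow_of_inverts (Invol.conj_prod_right t3 s2), h.iv ha]
  have c2 : t' * (s * (t' * s) ^ m) = (t' * s) ^ (m + 1) := by rw [pow_succ', mul_assoc]
  obtain ⟨q, hq, c⟩ := (h.mem _).1 ha
  obtain ⟨δ, k⟩ := h.ex s hs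
  have c3 := mul_inv_eq_iff_eq_mul.1 c1
  refine (Invol.isConj_of_odd (y := s * (t' * s) ^ m) t3 (by
    rw [mul_assoc, ← mul_assoc _ s, ← c3, mul_assoc, h.sq ha, mul_one, s2]) (hm.of_dvd_nat (orderOf_dvd_of_pow_eq_one ?_))).trans ?_
  · obtain ⟨j, hj⟩ := hm.add_one
    rw [c2, ← pow_mul, mul_comm, pow_mul, hj, ← two_mul, pow_mul, _root_.sq, h.sq ha, one_pow]
  · rw [c] at c1 c3 ⊢
    obtain ⟨p, hp, c4⟩ := (show ∀ δ < 4, δ ≠ 0 → ∀ q < 16, act δ q = q → ∃ p < 16, p ^^^ act δ p = q by decide +kernel) δ k.1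
      (fun c => ns ((h.zero hs k).2 c)) q hq ((h.cent k hq).1 (mem_cent1.2 c3.symm))
    exact (isConj_iff.2 ⟨e p, by rw [h.cj_eq k hp, c4, c3]⟩).symm

include hψ hk in
theorem cls : ∀ q < 16, IsConj (e q) (e (rep q)) := by
  have a : ∀ δ < 4, ∀ q < 16, IsConj (e q) (e (act δ q)) := fun δ hδ q hq => by
    obtain ⟨t, -, k, -⟩ := h.split δ hδ
    exact isConj_iff.2 ⟨t, k.2 q hq⟩
  have b : ∀ δ < 4, δ ≠ 0 → ∀ q < 16, act δ q = q → q ≠ 0 → act 1 q ≠ q → IsConj (e q) (e 3) := fun δ hδ d0 q hq c q0 c' => by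
    obtain ⟨t, ht, k, t2⟩ := h.split δ hδ
    obtain ⟨s, hs, k', s2⟩ := h.split 1 (by decide)
    obtain ⟨n, hn, c1⟩ := h.fuse ψ hψ hk ht hs (mt (h.zero ht k).1 d0) (mt (h.zero hs k').1 (by decide)) t2 s2
    have f : ∀ q < 16, act δ q = q → ∃ x < 16, act 1 x = x ∧ n * e q * n⁻¹ = e x := fun q hq c => by
      obtain ⟨x, hx, c2⟩ := (h.mem _).1 (conj_mem_of_norm hn (h.em hq))
      refine ⟨x, hx, (h.cent k' hx).1 (mem_cent1_comm.1 ((mul_mem_cancel_left ?_).1 (cent_le_cent1 (h.em hx) c1))), c2⟩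
      rw [← c2, C1_conj]
      exact conj_mem_cj n (mem_cent1_comm.1 ((h.cent k hq).2 c))
    have l := act_lt 1 (by decide) q hq
    obtain ⟨x, hx, x1, x2⟩ := f q hq c
    obtain ⟨y, hy, y1, y2⟩ := f _ l ((show ∀ δ < 4, ∀ q < 16, act δ q = q → act δ (act 1 q) = act 1 q by decide +kernel)
      δ hδ q hq c)
    have z : ∀ q < 16, q ≠ 0 → n * e q * n⁻¹ ≠ e 0 := fun q hq q0 c => q0 (h.inj _ hq _ (by decide) (by
      rw [h.one, conj_eq_one_iff] at c; rw [c, h.one]))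
    have e12 : IsConj (e 12) (e 3) := a 2 (by decide) 12 (by decide)
    rcases (show ∀ x < 16, ∀ y < 16, act 1 x = x → act 1 y = y → x ≠ 0 → y ≠ 0 → x ≠ y → x = 3 ∨ x = 12 ∨ y = 3 ∨ y = 12
      by decide +kernel) x hx y hy x1 y1 (fun c => z q hq q0 (c ▸ x2)) (fun c => z _ l ((show ∀ q < 16, q ≠ 0 → act 1 q ≠ 0
        by decide +kernel) q hq q0) (c ▸ y2)) (fun c => c' (h.inj _ l _ hq ((MulAut.conj n).injective (y2.trans (c ▸ x2.symm)))))
      with rfl | rfl | rfl | rfl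
    exacts [isConj_iff.2 ⟨n, x2⟩, (isConj_iff.2 ⟨n, x2⟩).trans e12, (a 1 (by decide) q hq).trans (isConj_iff.2 ⟨n, y2⟩),
      (a 1 (by decide) q hq).trans ((isConj_iff.2 ⟨n, y2⟩).trans e12)]
  intro q hq
  rcases (show ∀ q < 16, (∃ δ < 4, act δ q = rep q) ∨ (rep q = 3 ∧ q ≠ 0 ∧ act 1 q ≠ q ∧ ∃ δ < 4, δ ≠ 0 ∧ act δ q = q)
    by decide +kernel) q hq with ⟨δ, hδ, c⟩ | ⟨c, q0, c', δ, hδ, d0, c1⟩
  exacts [c ▸ a δ hδ q hq, c ▸ b δ hδ d0 q hq c1 q0 c']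

include hψ hk in
theorem two {a : G} (ha : a ∈ A) (a1 : a ≠ 1) : IsConj a (e 3) ∨ IsConj a (e 15) := by
  classical
  have := Fact.mk Nat.prime_five
  obtain ⟨c, hc⟩ := exists_prime_orderOf_dvd_card' (G := alternatingGroup (Fin 5)) 5 (by
    rw [nat_card_alternatingGroup]; simp [Nat.factorial])
  obtain ⟨⟨g, hg⟩, rfl⟩ := hψ c
  have g5 : g ^ 5 ∈ C[A] := (hk (⟨g, hg⟩ ^ 5)).1 (by rw [map_pow]; exact orderOf_dvd_iff_pow_eq_one.1 hc.dvd)
  have g1 : g ∉ C[A] := fun c => by rw [(hk ⟨g, hg⟩).2 c, orderOf_one] at hc; omega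
  have m : ∀ p : G → Prop, (∀ x, p x → p (g * x * g⁻¹)) →
      Nat.card {a : A // p a} ≡ Nat.card {a : A // p a ∧ a.1 ∈ C1[g]} [MOD 5] := fun p hp => by
    let f : Function.End {a : A // p a} := fun a => ⟨⟨g * a.1.1 * g⁻¹, conj_mem_of_norm hg a.1.2⟩, hp _ a.2⟩
    have := Fintype.ofFinite {a : A // p a}
    have i : ∀ k a, ((f ^ k) a).1.1 = g ^ k * a.1.1 * (g ^ k)⁻¹ := fun k => by
      induction k with
      | zero => intro a; exact (by group : a.1.1 = g ^ 0 * a.1.1 * (g ^ 0)⁻¹)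
      | succ k ih =>
        intro a
        rw [pow_succ']
        exact (show g * ((f ^ k) a).1.1 * g⁻¹ = _ by rw [ih]; group)
    have := Equiv.Perm.card_fixedPoints_modEq (f := f) (p := 5) (n := 1) (funext fun a => Subtype.ext (Subtype.ext
      ((i _ a).trans (conj_eq_of_cent g5 a.1.2))))
    rw [← Nat.card_eq_fintype_card, ← Nat.card_eq_fintype_card] at this
    refine this.trans (Nat.ModEq.refl _ |> (· |>.trans <| congrArg (· % 5) (Nat.card_congr ⟨fun a => ⟨a.1.1, a.1.2, mem_cent1.2 (mul_inv_eq_iff_eq_mul.1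
      (congrArg (fun x => x.1.1) a.2)).symm⟩, fun a => ⟨⟨a.1, a.2.1⟩, Subtype.ext (Subtype.ext
        (mul_inv_eq_iff_eq_mul.2 (mem_cent1.1 a.2.2).symm))⟩, fun _ => rfl, fun _ => rfl⟩)))
  have c16 : Nat.card {a : A // True} = 16 := (h.cnt fun _ => True).trans (by simp)
  have f1 : A ⊓ C1[g] = ⊥ := by
    have m1 := m (fun _ => True) fun _ _ => trivial
    have e1 : Nat.card {a : A // True ∧ a.1 ∈ C1[g]} = #(A ⊓ C1[g]) :=
      Nat.card_congr ⟨fun a => ⟨a.1.1, a.1.2, a.2.2⟩, fun a => ⟨⟨a.1, a.2.1⟩, trivial, a.2.2⟩, fun _ => rfl, fun _ => rfl⟩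
    have e2 : #A = 16 := c16 ▸ Nat.card_congr (Equiv.subtypeUnivEquiv fun _ => trivial).symm
    have e3 := cardSg (inf_le_left : A ⊓ C1[g] ≤ A)
    have e4 := proper_card (lt_of_le_of_ne (inf_le_left : A ⊓ C1[g] ≤ A) fun c => g1 (le_cent1_iff.1 (inf_eq_left.1 c)))
    rw [c16, e1] at m1
    rw [e2] at e3 e4
    exact card_eq_one_iff.1 ((show ∀ k < 16, k ∣ 16 → 16 % 5 = k % 5 → k = 1 by decide) _ e4 e3 m1)
  by_contra hn
  push Not at hn
  have m2 := m (IsConj a) fun x c => c.trans (isConj_iff.2 ⟨g, rfl⟩)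
  have : IsEmpty {x : A // IsConj a x.1 ∧ x.1 ∈ C1[g]} := ⟨fun x => a1 (by
    have := x.2.1
    rwa [(mem_bot.1 (f1.le ⟨x.1.2, x.2.2⟩) : x.1.1 = 1), isConj_one_left] at this)⟩
  rw [h.cnt, Nat.card_of_isEmpty, Finset.filter_congr (q := fun q => (rep q = 1 ∧ IsConj a (e 1)) ∨ (rep q = 7 ∧ IsConj a (e 7)))
    fun q hq => ?_] at m2
  · obtain ⟨q, hq, rfl⟩ := (h.mem a).1 ha
    have c := h.cls ψ hψ hk q hq
    have : IsConj (e q) (e 1) ∨ IsConj (e q) (e 7) := by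
      rcases (show ∀ q < 16, rep q = 0 ∨ rep q = 1 ∨ rep q = 3 ∨ rep q = 7 ∨ rep q = 15 by decide) q hq with d | d | d | d | d <;>
        rw [d] at c
      exacts [absurd (by rwa [h.one, isConj_one_left] at c) a1, .inl c, absurd c hn.1, .inr c, absurd c hn.2]
    by_cases c1 : IsConj (e q) (e 1) <;> by_cases c7 : IsConj (e q) (e 7) <;>
      simp only [c1, c7, and_true, and_false, or_false, false_or, or_self] at m2 this <;> revert m2 <;> decide
  · have hq := Finset.mem_range.1 hq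
    have c := h.cls ψ hψ hk q hq
    rw [show IsConj a (e q) ↔ IsConj a (e (rep q)) from ⟨fun d => d.trans c, fun d => d.trans c.symm⟩]
    rcases (show ∀ q < 16, rep q = 0 ∨ rep q = 1 ∨ rep q = 3 ∨ rep q = 7 ∨ rep q = 15 by decide) q hq with d | d | d | d | d <;>
      simp [d, h.one, a1, hn.1, hn.2, -isConj_iff]

include hψ hk in
theorem normal (P : Sylow 2 G) (hP : (P : Subgroup G) = S)
    (h3 : Nat.card {c : ConjClasses G // ∃ x ∈ c.carrier, orderOf x = 2} = 3) : (A ⊔ oddCore G).Normal := by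
  have := Fact.mk Nat.prime_two
  subst hP
  have hS := sylowIn_top P
  have o : ∀ q < 16, q ≠ 0 → orderOf (e q) = 2 := fun q hq q0 => Invol.orderOf_two_iff.2 ⟨h.sq (h.em hq),
    fun c => q0 (h.inj _ hq _ (by decide) (c.trans h.one.symm))⟩
  have sc : IsStronglyClosed A P := ⟨h.le, fun x hx g hg => by_contra fun c => by
    have x1 : x ≠ 1 := fun d => c (by simp [d])
    have := Nat.card_le_card_of_surjective (fun b : Bool => (⟨ConjClasses.mk (e (if b then 3 else 15)), _,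
      ConjClasses.mem_carrier_mk, o _ (by cases b <;> decide) (by cases b <;> decide)⟩ :
        {c : ConjClasses G // ∃ x ∈ c.carrier, orderOf x = 2})) fun ⟨c', y, hy, y2⟩ => by
      obtain ⟨k, hk'⟩ := Invol.exists_conj_invol_mem_sylow (Invol.mul_self_of y2) P
      have y3 := Invol.orderOf_two_iff.1 ((Invol.orderOf_conj' k y).trans y2)
      have : ∃ a ∈ A, a ≠ 1 ∧ IsConj y a := by
        by_cases d : k * y * k⁻¹ ∈ A
        · exact ⟨_, d, y3.2, isConj_iff.2 ⟨k, rfl⟩⟩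
        · exact ⟨x, hx, x1, (isConj_iff.2 ⟨k, rfl⟩).trans ((h.out hS ψ hψ hk hk' hg d c y3.1
            (by rw [conj_mul, h.sq hx]; simp)).trans (isConj_iff.2 ⟨g, rfl⟩).symm)⟩
      obtain ⟨a, ha, a1, d⟩ := this
      obtain rfl := ConjClasses.mem_carrier_iff_mk_eq.1 hy
      rcases h.two ψ hψ hk ha a1 with d' | d'
      exacts [⟨true, Subtype.ext (ConjClasses.mk_eq_mk_iff_isConj.2 (d.trans d').symm)⟩,
        ⟨false, Subtype.ext (ConjClasses.mk_eq_mk_iff_isConj.2 (d.trans d').symm)⟩]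
    rw [h3] at this
    simp at this⟩
  set L := normalClosure (A : Set G) with hL
  have AL : A ≤ L := le_normalClosure
  have hA : SylowIn 2 A L := by
    have := Sylow_setI_normal (normal_top L) hS
    rwa [show L ⊓ P = A from le_antisymm (fun s hs => ?_) (le_inf AL h.le)] at this
    obtain ⟨δ, k⟩ := h.ex s hs.2
    obtain ⟨t, ht, kt, t2⟩ := h.split δ k.1
    exact (h.zero hs.2 k).2 ((h.zero ht kt).1 (SC64.gold P (abelian_iff.2 h.ac) (fun _ => h.sq) sc ht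
      ((mul_mem_cancel_left (mem_inf.1 hs).1).1 (AL ((h.zero (mul_mem hs.2 ht) (k.mul kt)).2 (Nat.xor_self δ)))) t2))
  have hc : L ⊓ N[A] ≤ C[A] := by
    rcases (Normal.map (inferInstance : (L.subgroupOf N[A]).Normal) ψ hψ).eq_bot_or_eq_top with c | c
    · exact fun r hr => (hk ⟨r, hr.2⟩).1 (c.le ⟨_, hr.1, rfl⟩)
    · obtain ⟨t, ht, kt, t2⟩ := h.split 1 (by decide)
      obtain ⟨r, hr, d⟩ := c.ge (mem_top (ψ ⟨t, h.sN ht⟩))
      obtain ⟨n, ⟨j, rfl⟩, hn⟩ := h.odd (pHall_subl (le_inf AL (normG A)) inf_le_left hA) inf_le_right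
      have := (hk (r ^ (2 * j + 1))).2 (h.ac (hn r ⟨hr, r.2⟩))
      rw [map_pow, d, ← map_pow, hk, coe_pow, pow_succ, pow_mul, _root_.sq, t2, one_pow, one_mul] at this
      exact absurd (h.zero' kt this) (by decide)
  have : (oddCore G).Normal := inferInstance
  rw [show A ⊔ oddCore G = L ⊔ oddCore G from le_antisymm (sup_le_sup_right AL _) (sup_le (SC64.burn hA hc) le_sup_right)]
  infer_instance

end Fr

end Cfsg.Agent.SC16
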