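import Cfsg.Agent.BG.Base4

/-! An Alperin-type reduction for strong closure of a weakly closed subgroup of a Sylow 2-subgroup. -/

set_option autoImplicit false
set_option linter.unusedSectionVars false

namespace Cfsg.Agent.SC64

open Cfsg.Agent.BG Subgroup

variable {G : Type*} [Group G] [Finite G] {S A : Subgroup G}

theorem grow {X W : Subgroup G} (hS : IsPGroup 2 S) (hX : X ≤ S) (hW : W ≤ S) (hn : X ≤ N[W]) (h : ¬ W ≤ X) :
    ∃ w ∈ W, w ∈ N[X] ∧ w ∉ X := by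
  have := Fact.mk Nat.prime_two
  have h1 : X < X ⊔ W := lt_of_le_of_ne le_sup_left fun e => h (e ▸ le_sup_right)
  obtain ⟨u, ⟨hu, hu'⟩, hx⟩ := SetLike.exists_of_lt
    (nilpotent_proper_norm (nilpotentS (sup_le hX hW) (pgroup_nil hS)) h1)
  obtain ⟨x, hx', w, hw, rfl⟩ := (mem_sup_normr hn).1 hu
  exact ⟨w, hw, (mul_mem_cancel_left (normG X hx')).1 hu', fun e => hx (mul_mem hx' e)⟩

def Good (A : Subgroup G) (g : G) (X : Subgroup G) : Prop := ∀ x ∈ X, (x ∈ A ↔ g * x * g⁻¹ ∈ A)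

theorem Good.norm {X : Subgroup G} {m : G} (hm : m ∈ N[X]) (h : Good A m X) : m ∈ N[X ⊓ A] :=
  mem_norm_of_cj_le (by
    rintro _ ⟨x, ⟨h1, h2⟩, rfl⟩
    exact ⟨conj_mem_of_norm hm h1, (h x h1).1 h2⟩)

theorem good_of_norm {X : Subgroup G} {m : G} (hm : m ∈ N[X]) (h : m ∈ N[X ⊓ A]) : Good A m X := fun x hx =>
  ⟨fun e => (conj_mem_of_norm h (show x ∈ X ⊓ A from ⟨hx, e⟩)).2,
    fun e => ((conj_mem_iff_of_norm h).1 ⟨conj_mem_of_norm hm hx, e⟩).2⟩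

theorem alp (hS : SylowIn 2 S ⊤) (hA : A ≤ S) (wc : ∀ g, cj g A ≤ S → cj g A = A) (h : ¬ IsStronglyClosed A S) :
    ∃ X ≤ S, ¬ A ≤ X ∧ (∃ m ∈ N[X], m ∉ N[X ⊓ A]) ∧
      ∀ m ∈ N[X], m ∉ N[X ⊓ A] → ∀ y ∈ S, y ∈ N[X] → y ∈ N[cj m (X ⊓ A)] → y ∈ X := by
  have := Fact.mk Nat.prime_two
  have ga : ∀ g X, A ≤ X → cj g X ≤ S → Good A g X := fun g X h1 h2 x _ =>
    (conj_mem_iff_of_norm (mem_norm.2 (wc g ((cj_mono g h1).trans h2)))).symm
  have h0 : ∃ X : Subgroup G, X ≤ S ∧ ∃ g, cj g X ≤ S ∧ ¬ Good A g X := by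
    simp only [IsStronglyClosed, hA, true_and, not_forall] at h
    obtain ⟨x, hx, g, h1, h2⟩ := h
    exact ⟨zpowers x, zpowers_le.2 (hA hx), g, by rw [cj_zpowers]; exact zpowers_le.2 h1,
      fun e => h2 ((e x (mem_zpowers x)).1 hx)⟩
  obtain ⟨X1, hX1⟩ := h0
  obtain ⟨X0, ⟨hX0, g, hg, bad⟩, mx⟩ := arg_max_exists (P := fun X => X ≤ S ∧ ∃ g, cj g X ≤ S ∧ ¬ Good A g X)
    (fun X => #X) hX1
  have big : ∀ Y ≤ S, #X0 < #Y → ∀ k, cj k Y ≤ S → Good A k Y := fun Y hY c k hk =>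
    by_contra fun e => c.not_ge (mx Y ⟨hY, k, hk, e⟩)
  have ne : #X0 < #S := proper_card (lt_of_le_of_ne hX0 fun e => bad (ga g X0 (e ▸ hA) hg))
  have up : ∀ Y ≤ S, #Y = #X0 → ∀ k, cj k (S ⊓ N[Y]) ≤ S → Good A k Y := fun Y hY c k hk x hx => by
    have h1 := nilpotent_proper_norm (pgroup_nil hS.pg) (lt_of_card_lt hY (c ▸ ne))
    exact big _ inf_le_left (c ▸ proper_card h1) k hk x (h1.le hx)
  obtain ⟨P, hP, hP0⟩ := Sylow_superset (p := 2) (inf_le_right : S ⊓ N[X0] ≤ N[X0]) (hS.pg.to_le inf_le_left)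
  obtain ⟨k, -, hk⟩ := Sylow_Jsub hS le_top hP.pg
  have xP : X0 ≤ P := (le_inf hX0 (normG X0)).trans hP0
  have hT : SylowIn 2 (S ⊓ N[cj k X0]) N[cj k X0] := by
    have h1 : cj k P ≤ S ⊓ N[cj k X0] := le_inf hk (by rw [N_cj]; exact cj_mono k hP.le)
    refine sylow_mk inf_le_right (hS.pg.to_le inf_le_left) fun e => hP.not_dvd ?_
    rw [← relIndex_cj k, ← N_cj]
    exact e.trans (relIndex_dvd_of_le_left _ h1)
  have hX : cj k X0 ≤ S := (cj_mono k xP).trans hk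
  have g1 : Good A k X0 := up X0 hX0 rfl k ((cj_mono k hP0).trans hk)
  obtain ⟨n, hn, h2⟩ := Sylow_Jsub hT (Q := cj (k * g⁻¹) (S ⊓ N[cj g X0]))
    (by rw [show cj k X0 = cj (k * g⁻¹) (cj g X0) by simp [← cj_mul], N_cj (k * g⁻¹)]; exact cj_mono _ inf_le_right)
    ((hS.pg.to_le inf_le_left).map _)
  have g2 : Good A (n * (k * g⁻¹)) (cj g X0) := up _ hg (card_cj ..) _ (by rw [cj_mul]; exact h2.trans inf_le_left)
  have g3 : ¬ Good A n (cj k X0) := fun e => bad fun x hx => by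
    rw [g1 x hx, e _ (conj_mem_cj k hx), g2 _ (conj_mem_cj g hx)]
    congr! 1; group
  refine ⟨cj k X0, hX, fun e => g3 (ga n _ e (by rw [cj_of_norm hn]; exact hX)),
    ⟨n, hn, fun e => g3 (good_of_norm hn e)⟩, fun m hm hm' y hy hy1 hy2 => by_contra fun hy3 => hm' ?_⟩
  have c0 : #(cj k X0) = #X0 := card_cj ..
  generalize cj k X0 = X at *
  have sA : S ≤ N[A] := fun s hs => mem_norm.2 (wc s (cj_le_of_mem hs hA))
  have hT0 : SylowIn 2 (S ⊓ N[X]) (N[X] ⊓ N[X ⊓ A]) :=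
    pHall_subl (le_inf inf_le_right (normsI inf_le_right (inf_le_left.trans sA))) inf_le_left hT
  have hY : X ⊔ zpowers y ≤ S := sup_le hX (zpowers_le.2 hy)
  obtain ⟨m0, hm0, h3⟩ := Sylow_Jsub hT0 (Q := cj m⁻¹ (X ⊔ zpowers y)) (by
    rw [cj_sup, cj_of_norm (inv_mem hm), cj_zpowers]
    refine sup_le (le_inf (normG X) (normsI (normG X) (hX.trans sA))) (zpowers_le.2 ⟨?_, ?_⟩)
    · exact (show _ ∈ N[X] from mul_mem (mul_mem (inv_mem hm) hy1) (inv_mem (inv_mem hm)))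
    · rw [N_cj, mem_cj] at hy2; simpa using hy2) ((hS.pg.to_le hY).map _)
  have g4 : Good A (m0 * m⁻¹) (X ⊔ zpowers y) := big _ hY (c0 ▸ proper_card (lt_of_le_of_ne le_sup_left
    fun e => hy3 (e ▸ mem_sup_right (mem_zpowers y)))) _ (by rw [cj_mul]; exact h3.trans inf_le_left)
  have h4 := Good.norm (mul_mem hm0.1 (inv_mem hm)) fun x hx => g4 x (mem_sup_left hx)
  exact (inv_mem_iff (x := m)).1 ((mul_mem_cancel_left (mem_inf.1 hm0).2).1 h4)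

end Cfsg.Agent.SC64
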