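import Cfsg.Agent.SC64.A

/-! Frames for the group `2^6 : D₈` (a Sylow 2-subgroup of `M₂₄` modulo its centre); strong closure of the `2^6`. -/

set_option autoImplicit false
set_option linter.unusedSectionVars false
set_option maxRecDepth 100000
set_option synthInstance.maxSize 4096

namespace Cfsg.Agent.SC64

open Cfsg.Agent.BG Subgroup

variable {G : Type*} [Group G] [Finite G] {S A : Subgroup G} {e : ℕ → G}

def act (δ q : ℕ) : ℕ := q ^^^ 2 * (δ % 2 * (q % 2)) ^^^ 4 * (((δ / 2 % 2 + δ % 2 * (δ / 4)) * (q % 2) + δ / 4 * (q / 2 % 2)) % 2) ^^^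
  8 * ((δ % 2 * (q / 16 % 2) + δ / 2 % 2 * (q / 32)) % 2) ^^^ 16 * (δ / 4 * (q / 32))
def dm (δ ε : ℕ) : ℕ := δ ^^^ ε ^^^ 2 * (δ % 2 * (ε / 4))
def cq (δ q : ℕ) : ℕ := q ^^^ act δ q

def K (e : ℕ → G) (t : G) (δ : ℕ) : Prop := δ < 8 ∧ ∀ q < 64, t * e q * t⁻¹ = e (act δ q)

structure Fr (S A : Subgroup G) (e : ℕ → G) : Prop where
  mem : ∀ x, x ∈ A ↔ ∃ q < 64, x = e q
  mul : ∀ q < 64, ∀ r < 64, e q * e r = e (q ^^^ r)
  inj : ∀ q < 64, ∀ r < 64, e q = e r → q = r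
  le : A ≤ S
  ex : ∀ t ∈ S, ∃ δ, K e t δ
  sc : ∀ t ∈ S, K e t 0 → t ∈ A
  split : ∀ δ < 8, dm δ δ = 0 → ∃ t ∈ S, K e t δ ∧ t * t = 1

theorem act_lt : ∀ δ < 8, ∀ q < 64, act δ q < 64 ∧ cq δ q < 64 := by decide +kernel
theorem act_dm : ∀ δ < 8, ∀ ε < 8, dm δ ε < 8 ∧ ∀ q < 64, act δ (act ε q) = act (dm δ ε) q := by decide +kernel
theorem xor_lt {q r : ℕ} (hq : q < 64) (hr : r < 64) : q ^^^ r < 64 := Nat.xor_lt_two_pow (n := 6) hq hr

def Cd (δ ε : ℕ) : Prop := δ ≠ 0 ∧ ε ≠ 0 ∧ dm ε δ ≠ 0 ∧ dm δ δ = 0 ∧ dm ε ε = 0 ∧ dm δ ε = dm ε δ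
instance Cd.dec (δ ε : ℕ) : Decidable (Cd δ ε) := by unfold Cd; infer_instance
def zt (δ ε : ℕ) : ℕ := 4 + 4 * ((δ ||| ε) % 2)

theorem F0 : ∀ δ < 8, ∀ ε < 8, Cd δ ε → ∀ η < 8, dm η η = 0 → dm η δ = dm δ η → dm η ε = dm ε η →
    η = 0 ∨ dm η δ = 0 ∨ dm η ε = 0 ∨ dm η (dm δ ε) = 0 := by decide +kernel
theorem F1 : ∀ δ < 8, ∀ ε < 8, Cd δ ε → ((Finset.range 64).filter fun q => act δ q = q ∧ act ε q = q).card = 8 := by
  decide +kernel
theorem F2 : ∀ δ < 8, ∀ ε < 8, Cd δ ε → ∀ q < 64,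
    (act δ (cq δ q) = cq δ q ∧ act ε (cq δ q) = cq δ q) ∧ act δ (cq ε q) = cq ε q ∧ act ε (cq ε q) = cq ε q := by
  decide +kernel
theorem F3 : ∀ δ < 8, ∀ ε < 8, Cd δ ε → zt δ ε < 64 ∧ (∀ η < 8, act η (zt δ ε) = zt δ ε) ∧ 16 < ((Finset.range 64).filter
    fun q => (cq δ q = 0 ∨ cq δ q = zt δ ε) ∧ (cq ε q = 0 ∨ cq ε q = zt δ ε)).card := by decide +kernel
theorem F5 : ∀ δ < 8, ∀ ε < 8, Cd δ ε → ∀ q < 64, (act δ q = q ∧ act ε q = q) ∨ cq δ q = zt δ ε ∨ cq ε q = zt δ ε ∨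
    (act δ q ≠ q ∧ act ε q ≠ q ∧ act (dm δ ε) q ≠ q) := by decide +kernel

theorem K.mul {t s : G} {δ ε : ℕ} (h : K e t δ) (h' : K e s ε) : K e (t * s) (dm δ ε) :=
  ⟨(act_dm δ h.1 ε h'.1).1, fun q hq => by
    rw [← (act_dm δ h.1 ε h'.1).2 q hq, ← h.2 _ (act_lt ε h'.1 q hq).1, ← h'.2 q hq]; group⟩

theorem cover {F : Subgroup G} (L : List G) (h : ∀ s ∈ F, ∃ t ∈ L, s * t ∈ A) (hL : ∀ t ∈ L, t ∈ F) :
    #F ≤ L.length * #(F ⊓ A) := by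
  have : ∀ s : F, ∃ i : Fin L.length, s.1 * L.get i ∈ F ⊓ A := fun s => by
    obtain ⟨t, ht, h1⟩ := h s s.2
    obtain ⟨i, rfl⟩ := List.get_of_mem ht
    exact ⟨i, mul_mem s.2 (hL _ ht), h1⟩
  choose i hi using this
  simpa using Nat.card_le_card_of_injective (fun s : F => (i s, (⟨_, hi s⟩ : ↥(F ⊓ A)))) fun s s' c => by
    obtain ⟨c1, c2⟩ := Prod.ext_iff.1 c
    have c3 := congrArg Subtype.val c2
    simp only at c1 c3
    rw [c1] at c3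
    exact Subtype.ext (mul_right_cancel c3)

theorem two_le {I H : Subgroup G} (h : I ≤ H) (h' : ¬ H ≤ I) : 2 * #I ≤ #H := by
  obtain ⟨k, hk⟩ := cardSg h
  have := proper_card (lt_of_le_of_ne h fun c => h' c.ge)
  have := cardG_pos I
  have : 2 ≤ k := by nlinarith
  nlinarith

namespace Fr
variable (h : Fr S A e)
include h

theorem one : e 0 = 1 := by simpa using h.mul 0 (by decide) 0 (by decide)
theorem em {q : ℕ} (hq : q < 64) : e q ∈ A := (h.mem _).2 ⟨q, hq, rfl⟩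
theorem sq {x : G} (hx : x ∈ A) : x * x = 1 := by
  obtain ⟨q, hq, rfl⟩ := (h.mem x).1 hx
  rw [h.mul q hq q hq, Nat.xor_self, h.one]
theorem iv {x : G} (hx : x ∈ A) : x⁻¹ = x := inv_eq_of_mul_eq_one_right (h.sq hx)
theorem comm {x y : G} (hx : x ∈ A) (hy : y ∈ A) : x * y = y * x := by
  obtain ⟨q, hq, rfl⟩ := (h.mem x).1 hx
  obtain ⟨r, hr, rfl⟩ := (h.mem y).1 hy
  rw [h.mul q hq r hr, h.mul r hr q hq, Nat.xor_comm]

theorem uniq {t : G} {δ ε : ℕ} (h1 : K e t δ) (h2 : K e t ε) : δ = ε :=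
  (show ∀ δ < 8, ∀ ε < 8, act δ 1 = act ε 1 → act δ 2 = act ε 2 → δ = ε by decide +kernel) δ h1.1 ε h2.1
    (h.inj _ (act_lt _ h1.1 _ (by decide)).1 _ (act_lt _ h2.1 _ (by decide)).1 ((h1.2 1 (by decide)).symm.trans (h2.2 1 (by decide))))
    (h.inj _ (act_lt _ h1.1 _ (by decide)).1 _ (act_lt _ h2.1 _ (by decide)).1 ((h1.2 2 (by decide)).symm.trans (h2.2 2 (by decide))))

theorem zero {t : G} {δ : ℕ} (ht : t ∈ S) (h1 : K e t δ) : t ∈ A ↔ δ = 0 :=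
  ⟨fun c => h.uniq h1 ⟨by decide, fun q hq => by
    rw [h.comm c (h.em hq), mul_inv_cancel_right, (show ∀ q < 64, act 0 q = q by decide +kernel) q hq]⟩,
    fun c => h.sc t ht (c ▸ h1)⟩

theorem cj_eq {t : G} {δ q : ℕ} (h1 : K e t δ) (hq : q < 64) : e q * t * (e q)⁻¹ = e (cq δ q) * t := by
  rw [cq, ← h.mul _ hq _ (act_lt _ h1.1 _ hq).1, ← h1.2 q hq, h.iv (h.em hq)]; group

theorem cent {t : G} {δ q : ℕ} (h1 : K e t δ) (hq : q < 64) : e q ∈ C1[t] ↔ act δ q = q := by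
  rw [mem_cent1, eq_comm, ← mul_inv_eq_iff_eq_mul, h1.2 q hq]
  exact ⟨h.inj _ (act_lt _ h1.1 _ hq).1 _ hq, congrArg e⟩

theorem lo (p : ℕ → Prop) [DecidablePred p] {H : Subgroup G} (hp : ∀ q < 64, p q → e q ∈ H) :
    ((Finset.range 64).filter p).card ≤ #H := by
  rw [← Nat.card_eq_finsetCard]
  refine Nat.card_le_card_of_injective (fun q => (⟨e q, hp q ?_ ?_⟩ : H)) fun q r c => Subtype.ext (h.inj _ ?_ _ ?_ (congrArg Subtype.val c))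
  all_goals first | exact Finset.mem_range.1 (Finset.mem_filter.1 (Subtype.prop _)).1 | exact (Finset.mem_filter.1 (Subtype.prop _)).2

theorem hi (p : ℕ → Prop) [DecidablePred p] {H : Subgroup G} (hH : H ≤ A) (hp : ∀ q < 64, e q ∈ H → p q) :
    #H ≤ ((Finset.range 64).filter p).card := by
  rw [← Nat.card_eq_finsetCard]
  have : ∀ x : H, ∃ q : ↥((Finset.range 64).filter p), x.1 = e q := fun x => by
    obtain ⟨q, hq, c⟩ := (h.mem _).1 (hH x.2)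
    exact ⟨⟨q, Finset.mem_filter.2 ⟨Finset.mem_range.2 hq, hp q hq (c ▸ x.2)⟩⟩, c⟩
  choose f hf using this
  exact Nat.card_le_card_of_injective f fun x y c => Subtype.ext (by rw [hf, hf, c])

theorem card : #A = 64 :=
  le_antisymm ((h.hi (fun _ => True) le_rfl fun _ _ _ => trivial).trans (by simp))
    (le_trans (by simp) (h.lo (fun _ => True) fun _ hq _ => h.em hq))

theorem c16 {t : G} (ht : t ∈ S) (h1 : t ∉ A) (h2 : t * t = 1) : 8 < #(A ⊓ C1[t]) := by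
  obtain ⟨δ, k⟩ := h.ex t ht
  refine lt_of_lt_of_le ?_ (h.lo (fun q => act δ q = q) fun q hq c => ⟨h.em hq, (h.cent k hq).2 c⟩)
  exact (show ∀ δ < 8, dm δ δ = 0 → 8 < ((Finset.range 64).filter fun q => act δ q = q).card by decide +kernel) δ k.1
    ((h.zero (one_mem S) (h2 ▸ k.mul k)).1 (one_mem A))

section
variable {F : Subgroup G} (hF : ∀ u ∈ F, u * u = 1) {t s : G} (ht : t ∈ F) (hs : s ∈ F)
  (gen : ∀ u ∈ F, u ∈ A ∨ u * t ∈ A ∨ u * s ∈ A ∨ u * (t * s) ∈ A)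
include hF ht hs gen

theorem cjF {H : Subgroup G} (hH : F ≤ H) {a : G} (ha : a ∈ A) (h1 : a * t * a⁻¹ ∈ H) (h2 : a * s * a⁻¹ ∈ H) :
    cj a F ≤ H := by
  rintro _ ⟨u, hu, rfl⟩
  have k : ∀ w ∈ F, u * w ∈ A → a * w * a⁻¹ ∈ H → MulAut.conj a u ∈ H := fun w hw c c' => by
    have : MulAut.conj a u = u * w * (a * w * a⁻¹) := by
      rw [← mul_assoc, ← mul_assoc, ← h.comm ha c, mul_assoc a, mul_assoc u, hF w hw, mul_one, MulAut.conj_apply]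
    exact this ▸ mul_mem (hH (mul_mem hu hw)) c'
  rcases gen u hu with c | c | c | c
  · exact k 1 (one_mem _) (by simpa using c) (by simpa using one_mem H)
  · exact k t ht c h1
  · exact k s hs c h2
  · exact k _ (mul_mem ht hs) c (by convert mul_mem h1 h2 using 1; group)

theorem cenF {a : G} (ha : a ∈ A) (h1 : a ∈ C1[t]) (h2 : a ∈ C1[s]) : a ∈ C[F] := mem_cent.2 fun u hu => by
  have k : ∀ w, u * w ∈ A → a ∈ C1[w] → u * a = a * u := fun w c c' => by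
    have := h.comm ha c
    rw [mul_assoc, ← mem_cent1.1 c', ← mul_assoc, ← mul_assoc] at this
    exact (mul_right_cancel this).symm
  rcases gen u hu with c | c | c | c
  · exact h.comm c ha
  · exact k t c h1
  · exact k s c h2
  · exact k _ c (mem_cent1_comm.1 (mul_mem (mem_cent1_comm.1 h1) (mem_cent1_comm.1 h2)))

end

theorem four {F : Subgroup G} (hS : F ≤ S) (hF : ∀ u ∈ F, u * u = 1) (h1 : ¬ F ≤ A) (h2 : #F = #(A ⊓ N[F]))
    (h3 : ¬ A ≤ N[F]) : #(A ⊓ C[F]) = 8 ∧ #(F ⊓ A) ≤ 4 ∧ (∀ a ∈ A ⊓ N[F], a ∉ C[F] → F ⊓ C1[a] ≤ A) ∧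
      ∃ z ∈ A, S ≤ C1[z] ∧ 16 < #(A ⊓ N[F ⊔ zpowers z]) := by
  obtain ⟨t, ht, nt⟩ := SetLike.not_le_iff_exists.1 h1
  obtain ⟨δ, kt⟩ := h.ex t (hS ht)
  have cF : ∀ u ∈ F, ∀ v ∈ F, u * v = v * u := fun u hu v hv => by
    have i : ∀ u ∈ F, u⁻¹ = u := fun u hu => inv_eq_of_mul_eq_one_right (hF u hu)
    rw [← i _ (mul_mem hu hv), mul_inv_rev, i u hu, i v hv]
  have d2 : ∀ u ∈ F, ∀ ε, K e u ε → dm ε ε = 0 := fun u hu ε k => (h.zero (one_mem S) (hF u hu ▸ k.mul k)).1 (one_mem A)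
  have dc : ∀ u ∈ F, ∀ ε, K e u ε → ∀ v ∈ F, ∀ η, K e v η → dm ε η = dm η ε := fun u hu ε k v hv η k' =>
    h.uniq (k.mul k') (cF u hu v hv ▸ k'.mul k)
  have d0 : δ ≠ 0 := fun c => nt ((h.zero (hS ht) kt).2 c)
  have IC : F ⊓ A ≤ A ⊓ C[F] := fun x hx => ⟨hx.2, mem_cent.2 fun u hu => cF u hu x hx.1⟩
  have CN : A ⊓ C[F] ≤ A ⊓ N[F] := inf_le_inf_left A (cent_sub F)
  by_cases ca : ∀ u ∈ F, u ∈ A ∨ u * t ∈ A
  · exfalso
    have gen : ∀ u ∈ F, u ∈ A ∨ u * t ∈ A ∨ u * t ∈ A ∨ u * (t * t) ∈ A := fun u hu => (ca u hu).imp_right .inl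
    have nm : ∀ q < 64, e (cq δ q) ∈ F → e q ∈ N[F] := fun q hq c => by
      have : e q * t * (e q)⁻¹ ∈ F := h.cj_eq kt hq ▸ mul_mem c ht
      exact mem_norm_of_cj_le (h.cjF hF ht ht gen le_rfl (h.em hq) this this)
    have cc : ∀ q < 64, e (cq δ q) ∈ A ⊓ C[F] := fun q hq => by
      have l := (act_lt _ kt.1 _ hq).2
      have := (h.cent kt l).2 ((show ∀ δ < 8, dm δ δ = 0 → ∀ q < 64, act δ (cq δ q) = cq δ q by decide +kernel)
        δ kt.1 (d2 t ht δ kt) q hq)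
      exact ⟨h.em l, h.cenF hF ht ht gen (h.em l) this this⟩
    have c1 := cover (A := A) [1, t] (fun u hu => by simpa using ca u hu) (by simp [ht])
    have c2 := two_le IC fun c => h3 fun a ha => by
      obtain ⟨q, hq, rfl⟩ := (h.mem a).1 ha
      exact nm q hq (c (cc q hq)).1
    simp only [List.length_cons, List.length_nil] at c1
    have c3 : A ⊓ C[F] = A ⊓ N[F] := eq_of_card_le CN (by omega)
    have c4 := card_mul_relIndex IC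
    have c5 : (F ⊓ A).relIndex (A ⊓ C[F]) = 2 := by
      have := cardG_pos (F ⊓ A)
      rw [c3] at c2 c4 ⊢
      exact Nat.eq_of_mul_eq_mul_left this (by omega)
    obtain ⟨q, hq, r, hr, n1, n2, n3, n4⟩ := (show ∀ δ < 8, δ ≠ 0 → dm δ δ = 0 → ∃ q < 64, ∃ r < 64, act δ q ≠ q ∧ act δ r ≠ r ∧
      act δ (q ^^^ r) ≠ q ^^^ r ∧ cq δ q ^^^ cq δ r = cq δ (q ^^^ r) by decide +kernel) δ kt.1 d0 (d2 t ht δ kt)
    have no : ∀ q < 64, act δ q ≠ q → e (cq δ q) ∉ F ⊓ A := fun q hq n c => n ((h.cent kt hq).1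
      (cent_le_cent1 ht (c3.ge ⟨h.em hq, nm q hq c.1⟩).2))
    have := mul_mem_iff_of_index_two c5 (a := ⟨_, cc q hq⟩) (b := ⟨_, cc r hr⟩)
    simp only [mem_subgroupOf, coe_mul, h.mul _ (act_lt _ kt.1 _ hq).2 _ (act_lt _ kt.1 _ hr).2, n4] at this
    exact no _ (xor_lt hq hr) n3 (this.2 (iff_of_false (no q hq n1) (no r hr n2)))
  push Not at ca
  obtain ⟨s, hs, ns, ns'⟩ := ca
  obtain ⟨ε, ks⟩ := h.ex s (hS hs)
  have e0 : ε ≠ 0 := fun c => ns ((h.zero (hS hs) ks).2 c)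
  have e1 : dm ε δ ≠ 0 := fun c => ns' ((h.zero (hS (mul_mem hs ht)) (ks.mul kt)).2 c)
  have cd : Cd δ ε := ⟨d0, e0, e1, d2 t ht δ kt, d2 s hs ε ks, dc t ht δ kt s hs ε ks⟩
  have f0 := F0 δ kt.1 ε ks.1 cd
  have f1 := F1 δ kt.1 ε ks.1 cd
  have f2 := F2 δ kt.1 ε ks.1 cd
  obtain ⟨hζ, f3, f4⟩ := F3 δ kt.1 ε ks.1 cd
  have f5 := F5 δ kt.1 ε ks.1 cd
  generalize zt δ ε = ζ at *
  have gen : ∀ u ∈ F, u ∈ A ∨ u * t ∈ A ∨ u * s ∈ A ∨ u * (t * s) ∈ A := fun u hu => by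
    obtain ⟨η, k⟩ := h.ex u (hS hu)
    rw [h.zero (hS hu) k, h.zero (hS (mul_mem hu ht)) (k.mul kt), h.zero (hS (mul_mem hu hs)) (k.mul ks),
      h.zero (hS (mul_mem hu (mul_mem ht hs))) (k.mul (kt.mul ks))]
    exact f0 η k.1 (d2 u hu η k) (dc u hu η k t ht δ kt) (dc u hu η k s hs ε ks)
  have cc : ∀ q < 64, act δ q = q ∧ act ε q = q → e q ∈ A ⊓ C[F] := fun q hq c =>
    ⟨h.em hq, h.cenF hF ht hs gen (h.em hq) ((h.cent kt hq).2 c.1) ((h.cent ks hq).2 c.2)⟩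
  have o1 : #(A ⊓ C[F]) = 8 := f1 ▸ le_antisymm (h.hi _ inf_le_left fun q hq c =>
    ⟨(h.cent kt hq).1 (cent_le_cent1 ht c.2), (h.cent ks hq).1 (cent_le_cent1 hs c.2)⟩) (h.lo _ cc)
  have nm : ∀ H : Subgroup G, F ≤ H → ∀ q < 64, e (cq δ q) ∈ H → e (cq ε q) ∈ H → cj (e q) F ≤ H := fun H hH q hq c c' =>
    h.cjF hF ht hs gen hH (h.em hq) (h.cj_eq kt hq ▸ mul_mem c (hH ht)) (h.cj_eq ks hq ▸ mul_mem c' (hH hs))
  have c2 := two_le IC fun c => h3 fun a ha => by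
    obtain ⟨q, hq, rfl⟩ := (h.mem a).1 ha
    exact mem_norm_of_cj_le (nm F le_rfl q hq (c (cc _ (act_lt _ kt.1 _ hq).2 (f2 q hq).1)).1
      (c (cc _ (act_lt _ ks.1 _ hq).2 (f2 q hq).2)).1)
  have c1 := cover (A := A) [1, t, s, t * s] (fun u hu => by simpa using gen u hu) (by simp [ht, hs, mul_mem])
  simp only [List.length_cons, List.length_nil] at c1
  have o4 : 16 < #(A ⊓ N[F ⊔ zpowers (e ζ)]) := f4.trans_le (h.lo _ fun q hq c => ⟨h.em hq, mem_norm_of_cj_le (by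
    have k : ∀ r, r = 0 ∨ r = ζ → e r ∈ F ⊔ zpowers (e ζ) := by
      rintro _ (rfl | rfl)
      exacts [h.one ▸ one_mem _, mem_sup_right (mem_zpowers _)]
    rw [cj_sup, cj_zpowers, h.comm (h.em hq) (h.em hζ), mul_inv_cancel_right]
    exact sup_le (nm _ le_sup_left q hq (k _ c.1) (k _ c.2)) le_sup_right)⟩)
  refine ⟨o1, by omega, fun a ha na u hu => ?_, e ζ, h.em hζ, fun u hu => ?_, o4⟩
  · obtain ⟨q, hq, rfl⟩ := (h.mem a).1 ha.1
    have nz : e ζ ∉ F := fun c => by rw [sup_eq_left.2 (zpowers_le.2 c)] at o4; omega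
    have k : ∀ w ∈ F, ∀ η, K e w η → cq η q ≠ ζ := fun w hw η k c => nz (by
      have := conj_mem_of_norm (mem_inf.1 ha).2 hw
      rw [h.cj_eq k hq, c] at this
      exact (mul_mem_cancel_right hw).1 this)
    have k' : ∀ w η, K e w η → u * w ∈ A → act η q = q := fun w η k c => (h.cent k hq).1 (mem_cent1_comm.1
      ((mul_mem_cancel_left (mem_inf.1 hu).2).1 (mem_cent1.2 (h.comm c ha.1))))
    rcases f5 q hq with c | c | c | c
    · exact absurd (cc q hq c).2 na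
    · exact absurd c (k t ht δ kt)
    · exact absurd c (k s hs ε ks)
    · rcases gen u hu.1 with d | d | d | d
      exacts [d, absurd (k' _ _ kt d) c.1, absurd (k' _ _ ks d) c.2.1, absurd (k' _ _ (kt.mul ks) d) c.2.2]
  · obtain ⟨η, k⟩ := h.ex u hu
    exact mem_cent1_comm.1 ((h.cent k hζ).2 (f3 η k.1))

theorem strong (hS : SylowIn 2 S ⊤) (wc : ∀ g, cj g A ≤ S → cj g A = A) : IsStronglyClosed A S := by
  have := Fact.mk Nat.prime_two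
  by_contra hn
  obtain ⟨X, hX, nA, ⟨m, hm, hm'⟩, kl⟩ := alp hS h.le wc hn
  have sA : S ≤ N[A] := fun s hs => mem_norm.2 (wc s (cj_le_of_mem hs h.le))
  have xE : X ≤ N[X ⊓ A] := normsI (normG X) (hX.trans sA)
  have FX : ∀ m ∈ N[X], cj m (X ⊓ A) ≤ X := fun m hm => cj_le_of_norm hm inf_le_left
  have xF : ∀ m ∈ N[X], X ≤ N[cj m (X ⊓ A)] := fun m hm => by
    rw [N_cj]; exact (cj_of_norm hm).ge.trans (cj_mono m xE)
  have st : ∀ m ∈ N[X], m ∉ N[X ⊓ A] → A ⊓ N[cj m (X ⊓ A)] = X ⊓ A := fun m hm hm' => by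
    refine le_antisymm (le_inf (by_contra fun c => ?_) inf_le_left) (le_inf inf_le_right (inf_le_left.trans (xF m hm)))
    obtain ⟨w, hw, c1, c2⟩ := grow hS.pg hX (inf_le_left.trans h.le) (normsI (hX.trans sA) (norms_norm (xF m hm))) c
    exact c2 (kl m hm hm' w (h.le hw.1) c1 hw.2)
  have sqF : ∀ m, ∀ u ∈ cj m (X ⊓ A), u * u = 1 := by
    rintro m _ ⟨u, hu, rfl⟩
    rw [← map_mul, h.sq hu.2, map_one]
  have fo := fun m (hm : m ∈ N[X]) (hm' : m ∉ N[X ⊓ A]) => h.four ((FX m hm).trans hX) (sqF m)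
    (fun c => hm' (mem_norm_of_cj_le (le_inf (FX m hm) c))) (by rw [st m hm hm', card_cj])
    fun c => nA ((le_inf le_rfl c).trans ((st m hm hm').le.trans inf_le_left))
  have iv : ∀ m, m ∉ N[X ⊓ A] → m⁻¹ ∉ N[X ⊓ A] := fun m c c' => c (inv_mem_iff.1 c')
  have c8 : #(X ⊓ A) = 8 := by
    obtain ⟨o1, o2, o3, -⟩ := fo m hm hm'
    have o1' := (fo m⁻¹ (inv_mem hm) (iv m hm')).1
    refine Eq.trans (congrArg (fun H : Subgroup G => #H) ((st m hm hm').symm.trans (le_antisymm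
      (fun a ha => ⟨ha.1, by_contra fun c => ?_⟩) (inf_le_inf_left A (cent_sub _))))) o1
    have l1 : cj m (A ⊓ C[cj m⁻¹ (X ⊓ A)]) ≤ cj m (X ⊓ A) :=
      cj_mono m ((inf_le_inf_left A (cent_sub _)).trans (st _ (inv_mem hm) (iv m hm')).le)
    have l2 : cj m (A ⊓ C[cj m⁻¹ (X ⊓ A)]) ≤ C1[a] := by
      refine (cj_mono m inf_le_right).trans ?_
      rw [← C_cj, cj_cj_inv]
      exact cent_le_cent1 ((st m hm hm').le ha)
    have := card_le_card (le_inf l1 ((le_inf l1 l2).trans (o3 a ha c)))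
    rw [card_cj] at this
    omega
  obtain ⟨-, -, -, z, hz, zc, o4⟩ := fo m⁻¹ (inv_mem hm) (iv m hm')
  obtain ⟨w, hw, c1, c2⟩ := grow (W := A ⊓ N[cj m⁻¹ (X ⊓ A) ⊔ zpowers z]) hS.pg hX (inf_le_left.trans h.le)
    (normsI (hX.trans sA) (norms_norm (normsY (xF _ (inv_mem hm)) ((hX.trans zc).trans (cent1_le_norm_zpowers z)))))
    fun c => by have := card_le_card (le_inf c inf_le_left); omega
  have hb : m * w * m⁻¹ ∈ N[X] := mul_mem (mul_mem hm c1) (inv_mem hm)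
  have hb' : m * w * m⁻¹ ∉ N[X ⊓ A] := fun c => c2 (kl _ (inv_mem hm) (iv m hm') w (h.le hw.1) c1 (by rwa [N_cj, mem_cj_inv]))
  have hb2 : m * w * m⁻¹ ∈ N[(X ⊓ A) ⊔ zpowers (m * z * m⁻¹)] := by
    have := conj_mem_cj m (mem_inf.1 hw).2
    rwa [← N_cj, cj_sup, cj_cj_inv, cj_zpowers] at this
  have zE : z ∈ X ⊓ A := (st _ (inv_mem hm) (iv m hm')).le ⟨hz, cent_sub _ (le_cent1_iff.1 ((FX _ (inv_mem hm)).trans (hX.trans zc)))⟩
  have tX : m * z * m⁻¹ ∈ X := conj_mem_of_norm hm zE.1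
  have tA : m * z * m⁻¹ ∉ A := fun c => hb' (by rwa [sup_eq_left.2 (zpowers_le.2 (show _ ∈ X ⊓ A from ⟨tX, c⟩))] at hb2)
  have := h.c16 (hX tX) tA (by rw [conj_mul, h.sq hz]; simp)
  refine this.not_ge (c8 ▸ card_le_card (le_trans (le_inf inf_le_left (cents_norm (centsS
    (cj_le_of_norm hb2 le_sup_left) (le_cent_sup ?_ ?_)))) (st _ hb hb').le))
  · exact le_cent_iff.2 fun a ha b hb => h.comm ha.1 hb.2
  · rw [C_zpowers]; exact inf_le_right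

end Fr

end Cfsg.Agent.SC64
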