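import Cfsg.Agent.SC64.B
import Cfsg.Agent.Rec.Gen
import Cfsg.Agent.S2775

/-! A group with trivial core and Sylow 2-subgroup `2^6 : D₈` (a frame) has the `2^6` as a normal subgroup. -/

set_option autoImplicit false
set_option linter.unusedSectionVars false
set_option maxRecDepth 100000
set_option synthInstance.maxSize 4096

namespace Cfsg.Agent.SC64

open Cfsg.Agent.BG Subgroup

universe u
variable {G : Type u} [Group G] [Finite G] {S A : Subgroup G} {e : ℕ → G}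

def Od (A : Subgroup G) (r : G) : Prop := ∃ n, Odd n ∧ r ^ n ∈ C[A]
def Cm (A : Subgroup G) (r u : G) : Prop := ∀ a ∈ A, r * (u * a * u⁻¹) * r⁻¹ = u * (r * a * r⁻¹) * u⁻¹
def Tr (A : Subgroup G) (u w : G) : Prop := (∀ x ∈ A, ∃ y ∈ A ⊓ C1[u], w * x * w⁻¹ = x * y) ∧
  (∀ x ∈ A ⊓ C1[u], ∃ a ∈ A, w * x * w⁻¹ = x * (a * (u * a * u⁻¹))) ∧ ∀ a ∈ A, a * (u * a * u⁻¹) ∈ C1[w]
def TT (δ ε : ℕ) : Prop := (∀ q < 64, act δ (cq ε q) = cq ε q) ∧ (∀ q < 64, act δ q = q → ∃ p < 64, cq ε q = cq δ p) ∧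
  ∀ p < 64, act ε (cq δ p) = cq δ p
instance TT.dec (δ ε : ℕ) : Decidable (TT δ ε) := by unfold TT; infer_instance
def spanL (L : List ℕ) : List ℕ := L.foldr (fun b acc => acc ++ acc.map (· ^^^ b)) [0]

theorem Cm.inv {r u : G} (hr : r ∈ N[A]) (h : Cm A r u) : Cm A r⁻¹ u := fun a ha => by
  have := h _ (conj_mem_of_norm' hr ha)
  calc _ = r⁻¹ * (u * (r * (r⁻¹ * a * r) * r⁻¹) * u⁻¹) * r := by group
    _ = _ := by rw [← this]; group

theorem Cm.c1 {r u x : G} (hr : r ∈ N[A]) (h : Cm A r u) (hx : x ∈ A ⊓ C1[u]) : r * x * r⁻¹ ∈ A ⊓ C1[u] :=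
  ⟨conj_mem_of_norm hr hx.1, mem_cent1.2 (by
    rw [eq_comm, ← mul_inv_eq_iff_eq_mul, ← h x hx.1, ← mem_cent1.1 (mem_inf.1 hx).2, mul_inv_cancel_right])⟩

theorem Cm.b {r u a : G} (h : Cm A r u) (ha : a ∈ A) :
    r * (a * (u * a * u⁻¹)) * r⁻¹ = r * a * r⁻¹ * (u * (r * a * r⁻¹) * u⁻¹) := by rw [← h a ha]; group

theorem Tr.cj {r u w : G} (hr : r ∈ N[A]) (h : Cm A r u) (t : Tr A u w) : Tr A u (r * w * r⁻¹) := by
  refine ⟨fun x hx => ?_, fun x hx => ?_, fun a ha => ?_⟩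
  · obtain ⟨y, hy, c⟩ := t.1 _ (conj_mem_of_norm' hr hx)
    exact ⟨_, h.c1 hr hy, (by group : _ = r * (w * (r⁻¹ * x * r) * w⁻¹) * r⁻¹).trans (by rw [c]; group)⟩
  · obtain ⟨a, ha, c⟩ := t.2.1 _ ((h.inv hr).c1 (inv_mem hr) hx)
    exact ⟨_, conj_mem_of_norm hr ha, (by group : _ = r * (w * (r⁻¹ * x * r⁻¹⁻¹) * w⁻¹) * r⁻¹).trans
      (by rw [c, ← h.b ha]; group)⟩
  · rw [C1_conj, mem_cj]
    have := t.2.2 _ (conj_mem_of_norm (inv_mem hr) ha)
    rwa [← (h.inv hr).b ha, inv_inv] at this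

namespace Fr
variable (h : Fr S A e)
include h

theorem step {r a y : G} (o : Od A r) (ha : a ∈ A) (hy : y ∈ A ⊓ C1[r]) (c : r * a * r⁻¹ = a * y) : a ∈ C1[r] := by
  obtain ⟨_, ⟨k, rfl⟩, o⟩ := o
  have h2 : r * r ∈ C1[a] := mem_cent1.2 (mul_inv_eq_iff_eq_mul.1 (calc
    _ = r * (r * a * r⁻¹) * r⁻¹ := by group
    _ = r * (a * y) * r⁻¹ := by rw [c]
    _ = r * a * r⁻¹ * (r * y * r⁻¹) := by group
    _ = a := by rw [c, ← mem_cent1.1 (mem_inf.1 hy).2, mul_inv_cancel_right, mul_assoc, h.sq hy.1, mul_one]))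
  have h3 := cent_le_cent1 ha o
  rw [pow_succ, pow_mul, _root_.sq] at h3
  exact mem_cent1_comm.1 ((mul_mem_cancel_left (pow_mem h2 k)).1 h3)

theorem chain {u v w : G} (hu : u ∈ N[A]) (t : Tr A u v) (t' : Tr A u w) (o : Od A (w * v)) : w * v ∈ C[A] := by
  have b : ∀ a ∈ A, a * (u * a * u⁻¹) ∈ A ⊓ C1[w * v] := fun a ha => ⟨mul_mem ha (conj_mem_of_norm hu ha),
    mem_cent1_comm.1 (mul_mem (mem_cent1_comm.1 (t'.2.2 a ha)) (mem_cent1_comm.1 (t.2.2 a ha)))⟩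
  have k : ∀ x ∈ A ⊓ C1[u], x ∈ A ⊓ C1[w * v] ∧ w * x * w⁻¹ ∈ A ⊓ C1[w * v] := fun x hx => by
    obtain ⟨a, ha, c⟩ := t.2.1 x hx
    obtain ⟨a', ha', c'⟩ := t'.2.1 x hx
    have : x ∈ A ⊓ C1[w * v] := ⟨hx.1, h.step o hx.1 (mul_mem (b a' ha') (b a ha)) (calc
      _ = w * (v * x * v⁻¹) * w⁻¹ := by group
      _ = w * x * w⁻¹ * (w * (a * (u * a * u⁻¹)) * w⁻¹) := by rw [c]; group
      _ = _ := by rw [c', ← mem_cent1.1 (t'.2.2 a ha), mul_inv_cancel_right, mul_assoc])⟩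
    exact ⟨this, c' ▸ mul_mem this (b a' ha')⟩
  refine mem_cent.2 fun x hx => mem_cent1.1 ?_
  obtain ⟨y, hy, c⟩ := t.1 x hx
  obtain ⟨y', hy', c'⟩ := t'.1 x hx
  exact h.step o hx (mul_mem (k y' hy').1 (k y hy).2) (calc
      _ = w * (v * x * v⁻¹) * w⁻¹ := by group
      _ = w * x * w⁻¹ * (w * y * w⁻¹) := by rw [c]; group
      _ = _ := by rw [c', mul_assoc])

theorem ac {t : G} {δ q : ℕ} (k : K e t δ) (hq : q < 64) : t * e q * t⁻¹ = e q * e (cq δ q) := by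
  rw [k.2 q hq, h.mul _ hq _ (act_lt _ k.1 _ hq).2, cq, ← Nat.xor_assoc, Nat.xor_self, Nat.zero_xor]

theorem bc {t : G} {δ q : ℕ} (k : K e t δ) (hq : q < 64) : e q * (t * e q * t⁻¹) = e (cq δ q) := by
  rw [k.2 q hq, h.mul _ hq _ (act_lt _ k.1 _ hq).1, cq]

theorem tr {u v : G} {δ ε : ℕ} (ku : K e u δ) (kv : K e v ε) (t : TT δ ε) : Tr A u v := by
  refine ⟨fun x hx => ?_, fun x hx => ?_, fun x hx => ?_⟩
  · obtain ⟨q, hq, rfl⟩ := (h.mem x).1 hx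
    have l := (act_lt _ kv.1 _ hq).2
    exact ⟨_, ⟨h.em l, (h.cent ku l).2 (t.1 q hq)⟩, h.ac kv hq⟩
  · obtain ⟨q, hq, rfl⟩ := (h.mem x).1 hx.1
    obtain ⟨p, hp, c⟩ := t.2.1 q hq ((h.cent ku hq).1 hx.2)
    exact ⟨_, h.em hp, by rw [h.ac kv hq, h.bc ku hp, c]⟩
  · obtain ⟨q, hq, rfl⟩ := (h.mem x).1 hx
    rw [h.bc ku hq]
    exact (h.cent kv (act_lt _ ku.1 _ hq).2).2 (t.2.2 q hq)

theorem span {H : Subgroup G} (L : List ℕ) (hL : ∀ b ∈ L, b < 64 ∧ e b ∈ H) : ∀ q ∈ spanL L, q < 64 ∧ e q ∈ H := by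
  induction L with
  | nil => simp [spanL, h.one]
  | cons b L ih =>
    have i := ih fun b hb => hL b (List.mem_cons_of_mem _ hb)
    have j := hL b List.mem_cons_self
    intro q hq
    rcases List.mem_append.1 (show q ∈ spanL L ++ (spanL L).map (· ^^^ b) from hq) with c | c
    · exact i q c
    · obtain ⟨p, hp, rfl⟩ := List.mem_map.1 c
      exact ⟨xor_lt (i p hp).1 j.1, h.mul _ (i p hp).1 _ j.1 ▸ mul_mem (i p hp).2 j.2⟩

theorem triv {r u v w : G} (hr : r ∈ N[A]) (o : Od A r) (ku : K e u 1) (kv : K e v 2) (kw : K e w 4)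
    (cu : Cm A r u) (cv : Cm A r v) (cw : Cm A r w) : r ∈ C[A] := by
  have s : ∀ {t δ}, K e t δ → Cm A r t → ∀ q < 64, ∀ x < 64, r * e q * r⁻¹ = e x →
      r * e (cq δ q) * r⁻¹ = e (cq δ x) := fun k c q hq x hx d => by
    rw [← h.bc k hq, ← h.bc k hx, c.b (h.em hq), d]
  have z : ∀ q < 64, ∀ x < 64, r * e q * r⁻¹ = e x → (q = 0 ↔ x = 0) := fun q hq x hx d =>
    ⟨fun c => h.inj _ hx _ (by decide) (by rw [← d, c, h.one]; group), fun c => h.inj _ hq _ (by decide) (by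
      rw [c, h.one, conj_eq_one_iff] at d; rw [d, h.one])⟩
  have f : ∀ L : List ℕ, (∀ b ∈ L, b < 64 ∧ e b ∈ A ⊓ C1[r]) → ∀ q < 64, ∀ x, r * e q * r⁻¹ = e x → q ^^^ x ∈ spanL L →
      q < 64 ∧ e q ∈ A ⊓ C1[r] := fun L hL q hq x d c => ⟨hq, h.em hq, h.step o (h.em hq) (h.span L hL _ c).2 (by
    rw [d, h.mul _ hq _ (h.span L hL _ c).1, ← Nat.xor_assoc, Nat.xor_self, Nat.zero_xor])⟩
  obtain ⟨x, hx, dx⟩ := (h.mem _).1 (conj_mem_of_norm hr (h.em (show 1 < 64 by decide)))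
  obtain ⟨y, hy, dy⟩ := (h.mem _).1 (conj_mem_of_norm hr (h.em (show 32 < 64 by decide)))
  have x1 := s ku cu 1 (by decide) x hx dx
  have x2 := s kv cv 1 (by decide) x hx dx
  have x4 := s kw cw 1 (by decide) x hx dx
  have y1 := s ku cu 32 (by decide) y hy dy
  have y2 := s kv cv 32 (by decide) y hy dy
  have y4 := s kw cw 32 (by decide) y hy dy
  obtain ⟨a1, a2, a3⟩ := (show ∀ x < 64, cq 4 x = 0 → cq 2 x ≠ 0 → 4 ^^^ cq 2 x ∈ spanL [] ∧ 2 ^^^ cq 1 x ∈ spanL [8] ∧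
    1 ^^^ x ∈ spanL [4, 8, 16] by decide +kernel) x hx ((z _ (by decide) _ (act_lt 4 (by decide) x hx).2 x4).1 (by decide))
    (mt (z _ (by decide) _ (act_lt 2 (by decide) x hx).2 x2).2 (by decide))
  obtain ⟨b1, b2, b3⟩ := (show ∀ x < 64, cq 1 x = 0 → cq 2 x ≠ 0 → 8 ^^^ cq 2 x ∈ spanL [] ∧ 16 ^^^ cq 4 x ∈ spanL [4] ∧
    32 ^^^ x ∈ spanL [2, 4, 8] by decide +kernel) y hy ((z _ (by decide) _ (act_lt 1 (by decide) y hy).2 y1).1 (by decide))
    (mt (z _ (by decide) _ (act_lt 2 (by decide) y hy).2 y2).2 (by decide))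
  have e4 := f [] (by simp) 4 (by decide) _ x2 a1
  have e8 := f [] (by simp) 8 (by decide) _ y2 b1
  have e2 := f [8] (by simpa using e8) 2 (by decide) _ x1 a2
  have e16 := f [4] (by simpa using e4) 16 (by decide) _ y4 b2
  have e1 := f [4, 8, 16] (by simp only [List.forall_mem_cons]; exact ⟨e4, e8, e16, by simp⟩) 1 (by decide) _ dx a3
  have e32 := f [2, 4, 8] (by simp only [List.forall_mem_cons]; exact ⟨e2, e4, e8, by simp⟩) 32 (by decide) _ dy b3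
  refine mem_cent.2 fun a ha => mem_cent1.1 ?_
  obtain ⟨q, hq, rfl⟩ := (h.mem a).1 ha
  exact (h.span (H := A ⊓ C1[r]) [1, 2, 4, 8, 16, 32] (by simp only [List.forall_mem_cons]; exact ⟨e1, e2, e4, e8, e16, e32, by simp⟩) q
    ((show ∀ q < 64, q ∈ spanL [1, 2, 4, 8, 16, 32] by decide +kernel) q hq)).2.2

theorem core (sA : S ≤ N[A]) (L : Subgroup G) [hL : L.Normal] (od : ∀ r ∈ L, r ∈ N[A] → Od A r) : L ⊓ N[A] ≤ C[A] := by
  obtain ⟨u, hu, ku, u2⟩ := h.split 1 (by decide) (by decide)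
  obtain ⟨v, hv, kv, v2⟩ := h.split 2 (by decide) (by decide)
  obtain ⟨w, hw, kw, w2⟩ := h.split 4 (by decide) (by decide)
  have p : ∀ {r s t δ ε}, r ∈ L → r ∈ N[A] → s ∈ S → t ∈ S → t * t = 1 → K e s δ → K e t ε → TT δ ε → Cm A r s → Cm A r t :=
    fun {r s t δ ε} r1 r2 hs ht t2 ks kt tt c a ha => by
      have i := inv_eq_of_mul_eq_one_right t2
      have := h.chain (sA hs) (h.tr ks kt tt) ((h.tr ks kt tt).cj r2 c) (od _ (by
        simpa [mul_assoc, i] using mul_mem r1 (hL.conj_mem _ (inv_mem r1) t))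
        (mul_mem (mul_mem (mul_mem r2 (sA ht)) (inv_mem r2)) (sA ht)))
      have this : r * t * r⁻¹ * t⁻¹ ∈ C[A] := by rwa [i]
      rw [← conj_eq_of_cent this (conj_mem_of_norm (sA ht) (conj_mem_of_norm r2 ha))]
      group
  have q : ∀ r ∈ L, r ∈ N[A] → Cm A r v → r ∈ C[A] := fun r r1 r2 c => h.triv r2 (od r r1 r2) ku kv kw
    (p r1 r2 hv hu u2 kv ku (by decide +kernel) c) c (p r1 r2 hv hw w2 kv kw (by decide +kernel) c)
  let ρ := A.normalizerMonoidHom.rangeRestrict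
  have hρ : Function.Surjective ρ := MonoidHom.rangeRestrict_surjective _
  have : ((L.subgroupOf N[A]).map ρ).Normal := Normal.map inferInstance ρ hρ
  have o : ∀ r : N[A], ρ r = 1 ↔ r.1 ∈ C[A] := fun r => by
    rw [← MonoidHom.mem_ker, MonoidHom.ker_rangeRestrict, normalizerMonoidHom_ker, mem_subgroupOf]
  have H : ∀ s : N[A], (∀ r ∈ L, r ∈ N[A] → Cm A r s → Cm A r v) → ∀ k ∈ (L.subgroupOf N[A]).map ρ, Commute k (ρ s) → k = 1 := by
    rintro s hs _ ⟨r, hr, rfl⟩ c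
    refine (o r).2 (q _ hr r.2 (hs _ hr r.2 fun a ha => ?_))
    have := (o (r * s * r⁻¹ * s⁻¹)).1 (by simp only [map_mul, map_inv, c.eq]; group)
    rw [← conj_eq_of_cent this (conj_mem_of_norm s.2 (conj_mem_of_norm r.2 ha))]
    simp only [coe_mul, coe_inv]; group
  have := Rec.bot_of_four (K := (L.subgroupOf N[A]).map ρ) (x := ρ ⟨u, sA hu⟩) (y := ρ ⟨v, sA hv⟩)
    (by rw [← map_mul, ← map_one ρ]; exact congrArg ρ (Subtype.ext u2))
    (by rw [← map_mul, ← map_one ρ]; exact congrArg ρ (Subtype.ext v2))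
    (H _ fun r r1 r2 => p r1 r2 hu hv v2 ku kv (by decide +kernel)) (H _ fun _ _ _ => id)
    (map_mul ρ _ _ ▸ H _ fun r r1 r2 => p r1 r2 (mul_mem hu hv) hv v2 (ku.mul kv) kv (by decide +kernel))
  exact fun r hr => (o ⟨r, hr.2⟩).1 (this.le ⟨_, hr.1, rfl⟩)

theorem normal (hO : oddCore G = ⊥) (P : Sylow 2 G) (hP : (P : Subgroup G) = S) (wc : ∀ g, cj g A ≤ S → cj g A = A) :
    A.Normal := by
  have := Fact.mk Nat.prime_two
  subst hP
  have hS := sylowIn_top P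
  have sA : (P : Subgroup G) ≤ N[A] := fun s hs => mem_norm.2 (wc s (cj_le_of_mem hs h.le))
  set L := normalClosure (A : Set G) with hL
  have AL : A ≤ L := le_normalClosure
  have hO' : pPrimeCore 2 L = ⊥ := (map_eq_bot_iff_of_injective _ L.subtype_injective).1
    (le_bot_iff.1 (hO ▸ Solv.map_subtype_pPrimeCore_le L))
  obtain ⟨-, -, ⟨T, h1, h2⟩, -⟩ := S2775.result P A (abelian_iff.2 (le_cent_iff.2 fun _ ha _ hb => h.comm ha hb))
    (h.strong hS wc) L hL L (MonoidHom.id L) Function.surjective_id (by rw [hO', MonoidHom.ker_id])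
  rw [Subgroup.map_id] at h1 h2
  have hT : (T : Subgroup L).map L.subtype = A := by
    have a : A ≤ (T : Subgroup L).map L.subtype := fun x hx => ⟨⟨x, AL hx⟩, h1 hx, rfl⟩
    obtain ⟨g, -, hg⟩ := Sylow_Jsub hS le_top (T.2.map L.subtype)
    have gA := wc g ((cj_mono g a).trans hg)
    have k : ∀ s ∈ cj g ((T : Subgroup L).map L.subtype), ∀ δ, K e s δ → dm δ δ = 0 → δ = 0 := fun s hs δ ks d => by
      obtain ⟨t, ht, kt, t2⟩ := h.split δ ks.1 d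
      have : t ∈ cj g ((T : Subgroup L).map L.subtype) := by
        have := mul_mem (inv_mem hs) (cj_mono g a (gA.ge ((h.zero (mul_mem (hg hs) ht) (ks.mul kt)).2 d)))
        rwa [inv_mul_cancel_left] at this
      obtain ⟨_, ⟨y, hy, rfl⟩, rfl⟩ := this
      refine (h.zero ht kt).1 (gA.le ⟨_, (h2.ge (mem_sup_right (subset_closure ⟨hy, ?_⟩)) : y ∈ A.subgroupOf L), rfl⟩)
      rw [← map_mul, ← map_mul, map_eq_one_iff _ (conj_injective g), map_eq_one_iff _ L.subtype_injective] at t2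
      rw [_root_.sq, t2]
    refine le_antisymm (cj_le_cj.1 (le_trans (fun s hs => ?_) gA.ge)) a
    obtain ⟨δ, ks⟩ := h.ex s (hg hs)
    refine (h.zero (hg hs) ks).2 (k s hs δ ks (k _ (mul_mem hs hs) _ (ks.mul ks) ?_))
    exact (show ∀ δ < 8, dm (dm δ δ) (dm δ δ) = 0 by decide) δ ks.1
  have hA : SylowIn 2 A L := hT ▸ sylowIn_of_sylow T
  have hc := h.core sA L fun r r1 r2 => by
    have := (NormalIn.subgroupOf (⟨le_inf AL (normG A), inf_le_right⟩ : A ⊴ L ⊓ N[A]))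
    refine ⟨A.relIndex (L ⊓ N[A]), Nat.not_even_iff_odd.1 fun c => (pHall_subl (le_inf AL (normG A)) inf_le_left hA).not_dvd
      c.two_dvd, le_cent_iff.2 (fun _ ha _ hb => h.comm ha hb) ?_⟩
    exact pow_index_mem (A.subgroupOf (L ⊓ N[A])) ⟨r, r1, r2⟩
  have hN : normalizer (T : Set L) ≤ centralizer (T : Set L) := fun x hx => mem_centralizer_iff.2 fun y hy => Subtype.ext
    (mem_cent.1 (hc ⟨x.2, hT ▸ (T : Subgroup L).le_normalizer_map L.subtype ⟨x, hx, rfl⟩⟩) _ (hT ▸ ⟨y, hy, rfl⟩))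
  have b := MonoidHom.ker_transferSylow_isComplement' T hN
  rw [Solv.eq_bot_of_pPrimeCore_eq_bot hO' (N := (MonoidHom.transferSylow T hN).ker) (by
    rw [← b.index_eq_card]; exact ((Nat.Prime.coprime_iff_not_dvd Nat.prime_two).2 T.not_dvd_index).symm)] at b
  rw [← hT, isComplement'_bot_left.1 b, map_subtype_top]
  infer_instance

end Fr

end Cfsg.Agent.SC64
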