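import Cfsg.Agent.BG.Base4
import Cfsg.Agent.Invol.Basic
import Cfsg.Agent.S2775

/-! Consequences of Goldschmidt's theorem and of Burnside's transfer theorem for the normal closure of a strongly closed
elementary abelian subgroup. -/

set_option autoImplicit false

namespace Cfsg.Agent.SC64

open Cfsg.Agent.BG Subgroup

universe u
variable {G : Type u} [Group G] [Finite G] {A : Subgroup G}

theorem gold (S : Sylow 2 G) (hc : IsMulCommutative A) (h2 : ∀ a ∈ A, a * a = 1) (sc : IsStronglyClosed A S) {t : G}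
    (ht : t ∈ (S : Subgroup G)) (hK : t ∈ normalClosure (A : Set G)) (t2 : t * t = 1) : t ∈ A := by
  have := Fact.mk Nat.prime_two
  set K := normalClosure (A : Set G) with hL
  obtain ⟨-, -, ⟨T, -, h1⟩, -⟩ := S2775.result S A hc sc K hL (K ⧸ pPrimeCore 2 K) (QuotientGroup.mk' _)
    (QuotientGroup.mk'_surjective _) (QuotientGroup.ker_mk' _)
  have t3 : (⟨t, hK⟩ : K) * ⟨t, hK⟩ = 1 := Subtype.ext t2
  obtain ⟨g, hg⟩ := Invol.exists_conj_invol_mem_sylow (x := QuotientGroup.mk' (pPrimeCore 2 K) ⟨t, hK⟩)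
    (by rw [← map_mul, t3, map_one]) T
  obtain ⟨k, rfl⟩ := QuotientGroup.mk'_surjective _ g
  obtain ⟨a, ha, c⟩ := h1.ge (mem_sup_right (subset_closure ⟨hg, by rw [conj_pow, _root_.sq, ← map_mul, t3]; simp⟩))
  have a2 : a * a = 1 := Subtype.ext (h2 _ ha)
  rw [← map_inv, ← map_mul, ← map_mul, eq_comm, MonoidHom.eq_iff, QuotientGroup.ker_mk', inv_eq_of_mul_eq_one_right a2] at c
  obtain ⟨y, hy⟩ := isConj_iff.1 ((Invol.isConj_of_odd a2 (by rw [conj_mul, t3]; simp) (Invol.odd_orderOf_of_mem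
    (Nat.coprime_two_right.1 (Solv.coprime_card_pPrimeCore 2 K)) c)).trans (isConj_iff.2 ⟨k, rfl⟩).symm)
  have := congrArg Subtype.val hy
  simp only [coe_mul, coe_inv] at this
  exact this ▸ sc.2 _ ha _ (this ▸ ht)

theorem burn {K : Subgroup G} [K.Normal] (hA : SylowIn 2 A K) (hc : K ⊓ N[A] ≤ C[A]) : K ≤ A ⊔ oddCore G := by
  have := Fact.mk Nat.prime_two
  obtain ⟨T, hT⟩ := sylow_of_sylowIn hA
  have hN : normalizer (T : Set K) ≤ centralizer (T : Set K) := fun x hx => mem_centralizer_iff.2 fun y hy => Subtype.ext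
    (mem_cent.1 (hc ⟨x.2, hT ▸ (T : Subgroup K).le_normalizer_map K.subtype ⟨x, hx, rfl⟩⟩) _ (hT ▸ ⟨y, hy, rfl⟩))
  have b := MonoidHom.ker_transferSylow_isComplement' T hN
  have l := Solv.le_pPrimeCore (N := (MonoidHom.transferSylow T hN).ker) (p := 2) (by
    rw [← b.index_eq_card]; exact ((Nat.Prime.coprime_iff_not_dvd Nat.prime_two).2 T.not_dvd_index).symm)
  rw [← map_subtype_top K, ← b.sup_eq_top, Subgroup.map_sup, hT, sup_comm]
  exact sup_le_sup_left ((map_mono l).trans (Solv.map_subtype_pPrimeCore_le K)) _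

open Equiv Equiv.Perm in
theorem a5 {g g' : alternatingGroup (Fin 5)} (h1 : g ≠ 1) (h2 : g * g = 1) (h1' : g' ≠ 1) (h2' : g' * g' = 1) : IsConj g g' := by
  have k : ∀ g : alternatingGroup (Fin 5), g ≠ 1 → g * g = 1 →
      IsConj (⟨swap 0 4 * swap 1 3, by simp [mem_alternatingGroup]⟩ : alternatingGroup (Fin 5)) g := fun g h1 h2 => by
    obtain ⟨π, hπ⟩ := isConj_iff.1 (alternatingGroup.isConj_swap_mul_swap_of_cycleType_two g.2 (fun c => h1 (Subtype.ext c))
      fun n hn => le_antisymm (Nat.le_of_dvd two_pos ((dvd_of_mem_cycleType hn).trans (orderOf_dvd_of_pow_eq_one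
        (by rw [_root_.sq]; exact congrArg Subtype.val h2)))) (two_le_of_mem_cycleType hn))
    rcases Int.units_eq_one_or (sign π) with c | c
    · exact isConj_iff.2 ⟨⟨π, c⟩, Subtype.ext hπ⟩
    · refine isConj_iff.2 ⟨⟨π * swap 0 4, by simp [mem_alternatingGroup, c]⟩, Subtype.ext ?_⟩
      have : (swap 0 4 * (swap 0 4 * swap 1 3) * (swap 0 4)⁻¹ : Perm (Fin 5)) = swap 0 4 * swap 1 3 := by decide +kernel
      exact ((by group : π * swap 0 4 * (swap 0 4 * swap 1 3) * (π * swap 0 4)⁻¹ =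
        π * (swap 0 4 * (swap 0 4 * swap 1 3) * (swap 0 4)⁻¹) * π⁻¹).trans (by rw [this])).trans hπ
  exact (k g h1 h2).symm.trans (k g' h1' h2')

end Cfsg.Agent.SC64
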